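import Mathlib
import Cfsg.Agent.Lib.Helper5.OElus.Two
import Cfsg.Agent.Lib.Helper5.OrthPrime.Classify

set_option autoImplicit false

/-!
# Subspaces isometric to a given nondegenerate subspace
-/

namespace Cfsg.Agent.Lib.Helper5.OParab

open QuadraticMap Module Cfsg
open Cfsg.Agent.Lib.Helper5.QuadTwo Cfsg.Agent.Lib.Helper5.QuadSign
open Cfsg.Agent.Lib.Helper5.OrthPrime Cfsg.Agent.Lib.Helper5.OElus

universe u

section iso
variable {F : Type u} [Field F] [Fintype F] {V : Type u} [AddCommGroup V] [Module F V]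
  [FiniteDimensional F V]

/-- `W` is isometric to `W₀` -/
def IsoOn (Q : QuadraticForm F V) (W W₀ : Submodule F V) : Prop :=
  ∃ e : W ≃ₗ[F] W₀, ∀ w : W, Q ((e w : W₀) : V) = Q (w : V)

/-- nondegenerate subspaces of the same dimension and discriminant are isometric -/
theorem isoOn_of_isDisc (hq : Odd (Fintype.card F)) (Q : QuadraticForm F V)
    (W W₀ : Submodule F V) (hW : NdOn Q W) (hW₀ : NdOn Q W₀)
    (hdim : finrank F W = finrank F W₀) {δ δ₀ : F}
    (hδ : IsDisc (resForm (polarBilin Q) W) δ) (hδ₀ : IsDisc (resForm (polarBilin Q) W₀) δ₀)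
    (hdd : ∃ s : F, s ≠ 0 ∧ δ₀ = δ * s ^ 2) : IsoOn Q W W₀ := by
  have h2 : (2 : F) ≠ 0 := Cfsg.Agent.Lib.Helper5.two_ne_zero_of_odd_card hq
  have hodd : Fintype.card F % 2 = 1 := Nat.odd_iff.1 hq
  have hS : Symm (polarBilin Q) := symm_polarBilin Q
  obtain ⟨φ, hφ⟩ := exists_isometry_of_isDisc h2 hodd (resForm (polarBilin Q) W)
    (resForm (polarBilin Q) W₀) (symm_resForm hS W) (symm_resForm hS W₀)
    ((nondeg_res_iff Q W).2 hW) ((nondeg_res_iff Q W₀).2 hW₀) hdim hδ hδ₀ hdd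
  refine ⟨φ, fun w => ?_⟩
  have h1 := hφ w w
  rw [resForm_apply, resForm_apply, polarBilin_apply_apply, polarBilin_apply_apply, polar_self,
    polar_self, nsmul_eq_mul, nsmul_eq_mul, Nat.cast_ofNat] at h1
  exact mul_left_cancel₀ h2 h1

/-- **a subspace isometric to `W₀`** with a free summand inside `C` -/
theorem exists_iso_sup (hq : Odd (Fintype.card F)) (Q : QuadraticForm F V)
    (C U : Submodule F V) (horth : ∀ c ∈ C, ∀ u ∈ U, polar Q c u = 0) (hC : NdOn Q C)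
    (hU : NdOn Q U) (j : ℕ) (hj : 0 < j) (hjC : j < finrank F C) (W₀ : Submodule F V)
    (hW₀ : NdOn Q W₀) (hdim : finrank F W₀ = j + finrank F U) :
    ∃ W' : Submodule F V, W' ≤ C ∧ finrank F (W' ⊔ U : Submodule F V) = finrank F W₀ ∧
      NdOn Q (W' ⊔ U) ∧ IsoOn Q (W' ⊔ U) W₀ := by
  classical
  have h2 : (2 : F) ≠ 0 := Cfsg.Agent.Lib.Helper5.two_ne_zero_of_odd_card hq
  have hodd : Fintype.card F % 2 = 1 := Nat.odd_iff.1 hq
  have hS : Symm (polarBilin Q) := symm_polarBilin Q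
  obtain ⟨dU, hdU⟩ := exists_isDisc (resForm (polarBilin Q) U)
  have hdU0 : dU ≠ 0 := hdU.ne_zero (symm_resForm hS U) ((nondeg_res_iff Q U).2 hU)
  obtain ⟨δ₀, hδ₀⟩ := exists_isDisc (resForm (polarBilin Q) W₀)
  have hδ₀0 : δ₀ ≠ 0 := hδ₀.ne_zero (symm_resForm hS W₀) ((nondeg_res_iff Q W₀).2 hW₀)
  obtain ⟨W₀', hW₀'d, hW₀'disc⟩ := exists_sub_disc h2 hodd (resForm (polarBilin Q) C)
    (symm_resForm hS C) ((nondeg_res_iff Q C).2 hC) j hj hjC (δ₀ * dU) (mul_ne_zero hδ₀0 hdU0)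
  have hWdisc : IsDisc (resForm (polarBilin Q) (W₀'.map C.subtype)) (δ₀ * dU) :=
    hW₀'disc.map (B' := resForm (polarBilin Q) (W₀'.map C.subtype))
      (Submodule.equivSubtypeMap C W₀') (fun x y => rfl)
  have hWC : W₀'.map C.subtype ≤ C := by
    intro x hx
    obtain ⟨y, -, rfl⟩ := Submodule.mem_map.1 hx
    exact y.2
  have hdisj : Disjoint (W₀'.map C.subtype) U := by
    rw [disjoint_iff, eq_bot_iff]
    intro x hx
    rw [Submodule.mem_inf] at hx
    rw [Submodule.mem_bot]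
    apply hC x (hWC hx.1)
    intro c hc
    exact horth c hc x hx.2
  have hsup := isDisc_sup hS (W₀'.map C.subtype) U
    (fun u hu w hw => by
      rw [polarBilin_apply_apply]
      exact horth u (hWC hu) w hw) hdisj hWdisc hdU
  have hne : δ₀ * dU * dU ≠ 0 := mul_ne_zero (mul_ne_zero hδ₀0 hdU0) hdU0
  have hnd : NdOn Q (W₀'.map C.subtype ⊔ U) := (nondeg_res_iff Q _).1 (nondeg_of_isDisc hsup hne)
  have hfr : finrank F (W₀'.map C.subtype ⊔ U : Submodule F V) = finrank F W₀ := by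
    have h1 := Submodule.finrank_sup_add_finrank_inf_eq (W₀'.map C.subtype) U
    rw [hdisj.eq_bot, finrank_bot, add_zero, (Submodule.equivSubtypeMap C W₀').symm.finrank_eq,
      hW₀'d] at h1
    rw [h1, hdim]
  refine ⟨W₀'.map C.subtype, hWC, hfr, hnd, ?_⟩
  refine isoOn_of_isDisc hq Q _ W₀ hnd hW₀ hfr hsup hδ₀ ⟨dU⁻¹, inv_ne_zero hdU0, ?_⟩
  field_simp

/-- an invariant subspace isometric to `W₀` -/
theorem exists_iso_inv (hq : Odd (Fintype.card F)) (Q : QuadraticForm F V) (g : V →ₗ[F] V)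
    (C U : Submodule F V) (s : F) (hCs : ∀ x ∈ C, g x = s • x) (hUg : ∀ x ∈ U, g x ∈ U)
    (horth : ∀ c ∈ C, ∀ u ∈ U, polar Q c u = 0) (hC : NdOn Q C)
    (hU : NdOn Q U) (j : ℕ) (hj : 0 < j) (hjC : j < finrank F C) (W₀ : Submodule F V)
    (hW₀ : NdOn Q W₀) (hdim : finrank F W₀ = j + finrank F U) :
    ∃ W : Submodule F V, finrank F W = finrank F W₀ ∧ NdOn Q W ∧ IsoOn Q W W₀ ∧
      ∀ x ∈ W, g x ∈ W := by
  obtain ⟨W', hW'C, hfr, hnd, hiso⟩ := exists_iso_sup hq Q C U horth hC hU j hj hjC W₀ hW₀ hdim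
  refine ⟨W' ⊔ U, hfr, hnd, hiso, ?_⟩
  intro x hx
  obtain ⟨a, ha, b, hb, rfl⟩ := Submodule.mem_sup.1 hx
  rw [map_add]
  apply Submodule.add_mem
  · apply Submodule.mem_sup_left
    rw [hCs a (hW'C ha)]
    exact W'.smul_mem s ha
  · exact Submodule.mem_sup_right (hUg b hb)

end iso

end Cfsg.Agent.Lib.Helper5.OParab
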