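import Mathlib
import Cfsg.Agent.Lib.Helper5.OParab.Iso
import Cfsg.Agent.Lib.Helper5.OUnip.Basic

set_option autoImplicit false

/-!
# Involutions and elements squaring to `-1`, acting on subspaces isometric to a given one
-/

namespace Cfsg.Agent.Lib.Helper5.OParab

open QuadraticMap Module Cfsg
open Cfsg.Agent.Lib.Helper5.QuadTwo Cfsg.Agent.Lib.Helper5.QuadSign
open Cfsg.Agent.Lib.Helper5.OrthPrime Cfsg.Agent.Lib.Helper5.OElus

universe u

section two
variable {F : Type u} [Field F] [Fintype F] {V : Type u} [AddCommGroup V] [Module F V]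
  [FiniteDimensional F V]

/-- **involutions** fix a subspace isometric to any given nondegenerate subspace of dimension less
than half the dimension of the space -/
theorem exists_iso_of_involution (hq : Odd (Fintype.card F)) (Q : QuadraticForm F V)
    (hQ : Nd Q) (g : V →ₗ[F] V) (hiso : ∀ x, Q (g x) = Q x) (hgg : ∀ v, g (g v) = v)
    (W₀ : Submodule F V) (hW₀ : NdOn Q W₀) (hm0 : 0 < finrank F W₀)
    (hmn : 2 * finrank F W₀ < finrank F V) :
    ∃ W : Submodule F V, finrank F W = finrank F W₀ ∧ NdOn Q W ∧ IsoOn Q W W₀ ∧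
      ∀ x ∈ W, g x ∈ W := by
  have h2 : (2 : F) ≠ 0 := Cfsg.Agent.Lib.Helper5.two_ne_zero_of_odd_card hq
  have hS : Symm (polarBilin Q) := symm_polarBilin Q
  have hB : Nondeg (polarBilin Q) := fun v hv => hQ v (fun w => by
    have := hv w
    rwa [polarBilin_apply_apply] at this)
  have hpol : ∀ x y, polar Q (g x) (g y) = polar Q x y := by
    intro x y
    unfold polar
    rw [← map_add, hiso, hiso, hiso]
  obtain ⟨Ep, hEp⟩ : ∃ Ep : Submodule F V, Ep = LinearMap.ker (g - 1) := ⟨_, rfl⟩
  obtain ⟨Em, hEm⟩ : ∃ Em : Submodule F V, Em = LinearMap.ker (g + 1) := ⟨_, rfl⟩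
  have memp : ∀ x, x ∈ Ep ↔ g x = x := by
    intro x
    rw [hEp, LinearMap.mem_ker, LinearMap.sub_apply, Module.End.one_apply, sub_eq_zero]
  have memm : ∀ x, x ∈ Em ↔ g x = -x := by
    intro x
    rw [hEm, LinearMap.mem_ker, LinearMap.add_apply, Module.End.one_apply, add_eq_zero_iff_eq_neg]
  have hcompl : IsCompl Ep Em := by
    constructor
    · rw [disjoint_iff, eq_bot_iff]
      intro x hx
      rw [Submodule.mem_inf, memp, memm] at hx
      rw [Submodule.mem_bot]
      have h1 : (2 : F) • x = 0 := by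
        rw [two_smul]
        nth_rewrite 1 [← hx.1]
        rw [hx.2, neg_add_cancel]
      exact (smul_eq_zero.1 h1).resolve_left h2
    · rw [codisjoint_iff, eq_top_iff]
      intro x _
      have h1 : x = (2 : F)⁻¹ • (x + g x) + (2 : F)⁻¹ • (x - g x) := by
        rw [← smul_add, add_add_sub_cancel, ← two_smul F x, smul_smul, inv_mul_cancel₀ h2,
          one_smul]
      rw [h1]
      apply Submodule.add_mem
      · apply Submodule.mem_sup_left
        rw [memp, map_smul, map_add, hgg, add_comm]
      · apply Submodule.mem_sup_right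
        rw [memm, map_smul, map_sub, hgg, ← smul_neg, neg_sub]
  have horth : ∀ u ∈ Ep, ∀ w ∈ Em, polar Q u w = 0 := by
    intro u hu w hw
    have h1 := hpol u w
    rw [(memp u).1 hu, (memm w).1 hw, polar_neg_right] at h1
    have h3 : (2 : F) * polar Q u w = 0 := by linear_combination -h1
    exact (mul_eq_zero.1 h3).resolve_left h2
  have horth' : ∀ w ∈ Em, ∀ u ∈ Ep, polar Q w u = 0 := by
    intro w hw u hu
    rw [polar_comm]
    exact horth u hu w hw
  have hEpnd : NdOn Q Ep := (nondeg_res_iff Q Ep).1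
    (nondeg_of_isCompl hS hB hcompl (fun u hu w hw => by
      rw [polarBilin_apply_apply]; exact horth u hu w hw))
  have hEmnd : NdOn Q Em := (nondeg_res_iff Q Em).1
    (nondeg_of_isCompl hS hB hcompl.symm (fun u hu w hw => by
      rw [polarBilin_apply_apply]; exact horth' u hu w hw))
  have hdim := Submodule.finrank_add_eq_of_isCompl hcompl
  have hEpg : ∀ x ∈ Ep, g x = (1 : F) • x := fun x hx => by rw [one_smul]; exact (memp x).1 hx
  have hEmg : ∀ x ∈ Em, g x = (-1 : F) • x := fun x hx => by
    rw [neg_smul, one_smul]; exact (memm x).1 hx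
  have hbot : ∀ x ∈ (⊥ : Submodule F V), g x ∈ (⊥ : Submodule F V) := fun x hx => by
    rw [(Submodule.mem_bot F).1 hx, map_zero]; exact Submodule.zero_mem _
  rcases Nat.lt_or_ge (finrank F W₀) (finrank F Ep) with hlt | hge
  · exact exists_iso_inv hq Q g Ep ⊥ 1 hEpg hbot
      (fun c _ u hu => by rw [(Submodule.mem_bot F).1 hu, polar_zero_right]) hEpnd (ndOn_bot Q)
      (finrank F W₀) hm0 hlt W₀ hW₀ (by rw [finrank_bot, add_zero])
  · exact exists_iso_inv hq Q g Em ⊥ (-1) hEmg hbot
      (fun c _ u hu => by rw [(Submodule.mem_bot F).1 hu, polar_zero_right]) hEmnd (ndOn_bot Q)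
      (finrank F W₀) hm0 (by omega) W₀ hW₀ (by rw [finrank_bot, add_zero])

omit [Fintype F] in
/-- **elements squaring to `-1`** fix no nondegenerate subspace of odd dimension -/
theorem even_finrank_of_sq_neg_one (h2 : (2 : F) ≠ 0) (Q : QuadraticForm F V) (g : V →ₗ[F] V)
    (hiso : ∀ x, Q (g x) = Q x) (hgg : ∀ v, g (g v) = -v) (W : Submodule F V)
    (hW : ∀ x ∈ W, g x ∈ W) (hnd : NdOn Q W) : Even (finrank F W) := by
  have hpol : ∀ x y, polar Q (g x) (g y) = polar Q x y := by
    intro x y
    unfold polar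
    rw [← map_add, hiso, hiso, hiso]
  obtain ⟨T, hTdef⟩ : ∃ T : Module.End F W, T = g.restrict hW := ⟨_, rfl⟩
  have hTapp : ∀ x : W, ((T x : W) : V) = g x := fun x => by rw [hTdef]; rfl
  have h1 := Cfsg.Agent.Lib.Helper5.OUnip.even_rank_of_alt (B := resForm (polarBilin Q) W)
    (fun x y => by
      rw [resForm_apply, resForm_apply, polarBilin_apply_apply, polarBilin_apply_apply,
        polar_comm])
    (fun x hx => by
      apply Subtype.ext
      apply hnd x.1 x.2
      intro u hu
      have := hx ⟨u, hu⟩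
      rwa [resForm_apply, polarBilin_apply_apply, polar_comm] at this) T
    (fun u => by
      rw [resForm_apply, polarBilin_apply_apply, hTapp]
      have h3 := hpol (u : V) (g u)
      rw [hgg, polar_neg_right, polar_comm] at h3
      have h4 : (2 : F) * polar Q (u : V) (g u) = 0 := by linear_combination -h3
      exact (mul_eq_zero.1 h4).resolve_left h2)
  have hsurj : LinearMap.range T = ⊤ := by
    rw [eq_top_iff]
    intro x _
    refine ⟨-T x, ?_⟩
    apply Subtype.ext
    rw [map_neg, Submodule.coe_neg, hTapp, hTapp, hgg, neg_neg]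
  rw [hsurj, finrank_top] at h1
  exact h1

end two

end Cfsg.Agent.Lib.Helper5.OParab
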