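import Mathlib
import Cfsg.Agent.Lib.Helper5.OParab.Two
import Cfsg.Agent.Lib.Helper5.SpinClifford

set_option autoImplicit false

/-!
# Isometries squaring to `-1`: splitting off planes
-/

namespace Cfsg.Agent.Lib.Helper5.OParab

open QuadraticMap Module Cfsg
open Cfsg.Agent.Lib.Helper5.QuadTwo Cfsg.Agent.Lib.Helper5.QuadSign
open Cfsg.Agent.Lib.Helper5.OrthPrime Cfsg.Agent.Lib.Helper5.OElus
open Cfsg.Agent.Lib.Helper5.SpinClifford

universe u

section neg
variable {F : Type u} [Field F] {V : Type u} [AddCommGroup V] [Module F V]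

theorem polar_neg_sq (Q : QuadraticForm F V) (g : V →ₗ[F] V)
    (hiso : ∀ x, Q (g x) = Q x) (hgg : ∀ v, g (g v) = -v) (x y : V) :
    polar Q x (g y) = - polar Q (g x) y := by
  have h : polar Q (g x) (g (g y)) = polar Q x (g y) := by
    unfold polar
    rw [← map_add, hiso, hiso, hiso]
  rw [hgg, polar_neg_right] at h
  exact h.symm

theorem polar_gg (Q : QuadraticForm F V) (g : V →ₗ[F] V)
    (hiso : ∀ x, Q (g x) = Q x) (x y : V) : polar Q (g x) (g y) = polar Q x y := by
  unfold polar
  rw [← map_add, hiso, hiso, hiso]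

theorem polar_self_neg_sq (h2 : (2 : F) ≠ 0) (Q : QuadraticForm F V) (g : V →ₗ[F] V)
    (hiso : ∀ x, Q (g x) = Q x) (hgg : ∀ v, g (g v) = -v) (v : V) :
    polar Q v (g v) = 0 := by
  have h := polar_neg_sq Q g hiso hgg v v
  rw [polar_comm Q (g v) v] at h
  have h4 : (2 : F) * polar Q v (g v) = 0 := by linear_combination h
  exact (mul_eq_zero.1 h4).resolve_left h2

/-- the plane spanned by `v` and `g v` -/
def negPlane (g : V →ₗ[F] V) (v : V) : Submodule F V := Submodule.span F (Set.range ![v, g v])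

theorem mem_negPlane (g : V →ₗ[F] V) (v x : V) :
    x ∈ negPlane g v ↔ ∃ s t : F, s • v + t • g v = x := by
  unfold negPlane
  rw [Matrix.range_cons_cons_empty, Submodule.mem_span_pair]

theorem polar_self_eq (Q : QuadraticForm F V) (v : V) : polar Q v v = 2 * Q v := by
  rw [polar_self, nsmul_eq_mul, Nat.cast_ofNat]

theorem linearIndependent_neg (h2 : (2 : F) ≠ 0) (Q : QuadraticForm F V) (g : V →ₗ[F] V)
    (hiso : ∀ x, Q (g x) = Q x) (hgg : ∀ v, g (g v) = -v) (v : V) (hv : Q v ≠ 0) :
    LinearIndependent F ![v, g v] := by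
  rw [LinearIndependent.pair_iff]
  intro s t hst
  have hβ : (2 : F) * Q v ≠ 0 := mul_ne_zero h2 hv
  have h1 : polar Q v (s • v + t • g v) = s * (2 * Q v) := by
    rw [polar_add_right, polar_smul_right, polar_smul_right, polar_self_eq,
      polar_self_neg_sq h2 Q g hiso hgg, smul_eq_mul, smul_eq_mul, mul_zero, add_zero]
  have h2' : polar Q (g v) (s • v + t • g v) = t * (2 * Q v) := by
    rw [polar_add_right, polar_smul_right, polar_smul_right, polar_self_eq, hiso,
      polar_comm Q (g v) v, polar_self_neg_sq h2 Q g hiso hgg, smul_eq_mul, smul_eq_mul,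
      mul_zero, zero_add]
  rw [hst, polar_zero_right] at h1 h2'
  exact ⟨(mul_eq_zero.1 h1.symm).resolve_right hβ, (mul_eq_zero.1 h2'.symm).resolve_right hβ⟩

theorem finrank_negPlane (h2 : (2 : F) ≠ 0) (Q : QuadraticForm F V) (g : V →ₗ[F] V)
    (hiso : ∀ x, Q (g x) = Q x) (hgg : ∀ v, g (g v) = -v) (v : V) (hv : Q v ≠ 0) :
    finrank F (negPlane g v) = 2 := by
  unfold negPlane
  rw [finrank_span_eq_card (linearIndependent_neg h2 Q g hiso hgg v hv), Fintype.card_fin]

/-- the discriminant of the plane spanned by `v` and `g v` is a square -/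
theorem isDisc_negPlane (h2 : (2 : F) ≠ 0) (Q : QuadraticForm F V) (g : V →ₗ[F] V)
    (hiso : ∀ x, Q (g x) = Q x) (hgg : ∀ v, g (g v) = -v) (v : V) (hv : Q v ≠ 0) :
    IsDisc (resForm (polarBilin Q) (negPlane g v)) ((2 * Q v) ^ 2) := by
  unfold negPlane
  have hli := linearIndependent_neg h2 Q g hiso hgg v hv
  refine ⟨2, Basis.span hli, ?_⟩
  have h0 : ((Basis.span hli 0 : Submodule.span F (Set.range ![v, g v])) : V) = v :=
    Basis.coe_span_apply hli 0
  have h1 : ((Basis.span hli 1 : Submodule.span F (Set.range ![v, g v])) : V) = g v :=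
    Basis.coe_span_apply hli 1
  rw [Matrix.det_fin_two]
  simp only [gram_apply, resForm_apply, polarBilin_apply_apply]
  rw [h0, h1, polar_self_eq, polar_self_eq, hiso, polar_comm Q (g v) v,
    polar_self_neg_sq h2 Q g hiso hgg]
  ring

/-- splitting off the plane spanned by `v` and `g v` -/
theorem neg_sq_step [FiniteDimensional F V] (h2 : (2 : F) ≠ 0) (Q : QuadraticForm F V)
    (g : V →ₗ[F] V) (hiso : ∀ x, Q (g x) = Q x) (hgg : ∀ v, g (g v) = -v) (U : Submodule F V)
    (hUg : ∀ x ∈ U, g x ∈ U) (hU : NdOn Q U) (hpos : 0 < finrank F U) :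
    ∃ v ∈ U, Q v ≠ 0 ∧ ∃ U' : Submodule F V, U' ≤ U ∧ (∀ x ∈ U', g x ∈ U') ∧ NdOn Q U' ∧
      finrank F U' + 2 = finrank F U ∧ (∀ x ∈ U', polar Q v x = 0 ∧ polar Q (g v) x = 0) ∧
      Disjoint (negPlane g v) U' ∧ negPlane g v ⊔ U' = U ∧
      ∀ x ∈ U, ∃ a b : F, ∃ u' ∈ U', x = a • v + b • g v + u' := by
  -- a nonsingular vector
  obtain ⟨v, hvU, hv⟩ : ∃ v ∈ U, Q v ≠ 0 := by
    by_contra hcon
    push Not at hcon
    have hbot : U = ⊥ := by
      rw [eq_bot_iff]
      intro x hx
      rw [Submodule.mem_bot]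
      apply hU x hx
      intro w hw
      unfold polar
      rw [hcon _ (U.add_mem hw hx), hcon w hw, hcon x hx]
      ring
    rw [hbot, finrank_bot] at hpos
    exact lt_irrefl 0 hpos
  have hβ : (2 : F) * Q v ≠ 0 := mul_ne_zero h2 hv
  have hgvU : g v ∈ U := hUg v hvU
  obtain ⟨U', hU'def⟩ : ∃ U' : Submodule F V, U' = U ⊓ (LinearMap.ker (polarBilin Q v) ⊓
      LinearMap.ker (polarBilin Q (g v))) := ⟨_, rfl⟩
  have memU' : ∀ x, x ∈ U' ↔ x ∈ U ∧ polar Q v x = 0 ∧ polar Q (g v) x = 0 := by
    intro x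
    rw [hU'def, Submodule.mem_inf, Submodule.mem_inf, LinearMap.mem_ker, LinearMap.mem_ker,
      polarBilin_apply_apply, polarBilin_apply_apply]
  have hvgv := polar_self_neg_sq h2 Q g hiso hgg v
  have hgvv : polar Q (g v) v = 0 := by rw [polar_comm]; exact hvgv
  have hgvgv : polar Q (g v) (g v) = 2 * Q v := by rw [polar_self_eq, hiso]
  have hdec : ∀ x ∈ U, ∃ a b : F, ∃ u' ∈ U', x = a • v + b • g v + u' := by
    intro x hx
    refine ⟨(2 * Q v)⁻¹ * polar Q v x, (2 * Q v)⁻¹ * polar Q (g v) x,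
      x - ((2 * Q v)⁻¹ * polar Q v x) • v - ((2 * Q v)⁻¹ * polar Q (g v) x) • g v, ?_, by abel⟩
    rw [memU']
    refine ⟨U.sub_mem (U.sub_mem hx (U.smul_mem _ hvU)) (U.smul_mem _ hgvU), ?_, ?_⟩
    · rw [polar_sub_right, polar_sub_right, polar_smul_right, polar_smul_right, polar_self_eq,
        hvgv, smul_eq_mul, smul_eq_mul, mul_zero, sub_zero]
      field_simp
      ring
    · rw [polar_sub_right, polar_sub_right, polar_smul_right, polar_smul_right, hgvgv,
        hgvv, smul_eq_mul, smul_eq_mul, mul_zero, sub_zero]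
      field_simp
      ring
  have hU'U : U' ≤ U := fun x hx => ((memU' x).1 hx).1
  have hPU : negPlane g v ≤ U := by
    intro x hx
    obtain ⟨s, t, rfl⟩ := (mem_negPlane g v x).1 hx
    exact U.add_mem (U.smul_mem _ hvU) (U.smul_mem _ hgvU)
  have hdisj : Disjoint (negPlane g v) U' := by
    rw [Submodule.disjoint_def]
    intro x hxP hxU'
    obtain ⟨s, t, rfl⟩ := (mem_negPlane g v x).1 hxP
    obtain ⟨-, h1, h2'⟩ := (memU' _).1 hxU'
    rw [polar_add_right, polar_smul_right, polar_smul_right, polar_self_eq, hvgv, smul_eq_mul,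
      smul_eq_mul, mul_zero, add_zero] at h1
    rw [polar_add_right, polar_smul_right, polar_smul_right, hgvgv, hgvv, smul_eq_mul,
      smul_eq_mul, mul_zero, zero_add] at h2'
    rw [(mul_eq_zero.1 h1).resolve_right hβ, (mul_eq_zero.1 h2').resolve_right hβ, zero_smul,
      zero_smul, add_zero]
  have hsup : negPlane g v ⊔ U' = U := by
    apply le_antisymm (sup_le hPU hU'U)
    intro x hx
    obtain ⟨a, b, u', hu', rfl⟩ := hdec x hx
    exact Submodule.add_mem_sup ((mem_negPlane g v _).2 ⟨a, b, rfl⟩) hu'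
  refine ⟨v, hvU, hv, U', hU'U, ?_, ?_, ?_, fun x hx => ((memU' x).1 hx).2, hdisj, hsup, hdec⟩
  · intro x hx
    obtain ⟨hxU, h1, h2'⟩ := (memU' x).1 hx
    rw [memU']
    refine ⟨hUg x hxU, ?_, ?_⟩
    · rw [polar_neg_sq Q g hiso hgg, h2', neg_zero]
    · rw [polar_gg Q g hiso, h1]
  · intro x hx hxw
    obtain ⟨hxU, h1, h2'⟩ := (memU' x).1 hx
    apply hU x hxU
    intro w hw
    obtain ⟨a, b, u', hu', rfl⟩ := hdec w hw
    rw [polar_add_left, polar_add_left, polar_smul_left, polar_smul_left, h1, h2', hxw u' hu',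
      smul_zero, smul_zero, add_zero, add_zero]
  · have h3 := Submodule.finrank_sup_add_finrank_inf_eq (negPlane g v) U'
    rw [hsup, hdisj.eq_bot, finrank_bot, finrank_negPlane h2 Q g hiso hgg v hv] at h3
    omega

/-- **the discriminant of an invariant nondegenerate subspace is a square** -/
theorem exists_disc_sq_of_neg_sq [FiniteDimensional F V] (h2 : (2 : F) ≠ 0)
    (Q : QuadraticForm F V) (g : V →ₗ[F] V) (hiso : ∀ x, Q (g x) = Q x)
    (hgg : ∀ v, g (g v) = -v) :
    ∀ (k : ℕ) (U : Submodule F V), finrank F U = 2 * k → (∀ x ∈ U, g x ∈ U) → NdOn Q U →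
      ∃ δ : F, IsDisc (resForm (polarBilin Q) U) δ ∧ IsSquare δ := by
  intro k
  induction k with
  | zero =>
    intro U hk _ _
    have hbot : U = ⊥ := Submodule.finrank_eq_zero.1 (by rw [hk])
    subst hbot
    exact ⟨1, ⟨0, Basis.empty _, Matrix.det_isEmpty⟩, IsSquare.one⟩
  | succ k ih =>
    intro U hk hUg hU
    obtain ⟨v, hvU, hv, U', hU'U, hU'g, hU'nd, hU'd, horth, hdisj, hsup, -⟩ :=
      neg_sq_step h2 Q g hiso hgg U hUg hU (by omega)
    obtain ⟨δ', hδ', hsq⟩ := ih U' (by omega) hU'g hU'nd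
    have h1 := isDisc_sup (symm_polarBilin Q) (negPlane g v) U' (fun u hu w hw => by
      obtain ⟨s, t, rfl⟩ := (mem_negPlane g v u).1 hu
      rw [polarBilin_apply_apply, polar_add_left, polar_smul_left, polar_smul_left,
        (horth w hw).1, (horth w hw).2, smul_zero, smul_zero, add_zero]) hdisj
      (isDisc_negPlane h2 Q g hiso hgg v hv) hδ'
    rw [hsup] at h1
    exact ⟨_, h1, IsSquare.mul ⟨2 * Q v, pow_two _⟩ hsq⟩

theorem refl_add (Q : QuadraticForm F V) (v w₁ w₂ : V) :
    refl Q v (w₁ + w₂) = refl Q v w₁ + refl Q v w₂ := by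
  unfold SpinClifford.refl
  rw [polar_add_right, mul_add, add_smul]
  abel

theorem refl_smul (Q : QuadraticForm F V) (v w : V) (c : F) :
    refl Q v (c • w) = c • refl Q v w := by
  unfold SpinClifford.refl
  rw [polar_smul_right, smul_sub, smul_smul, smul_eq_mul]
  congr 2
  ring

theorem reflList_add (Q : QuadraticForm F V) (vs : List V) (w₁ w₂ : V) :
    reflList Q vs (w₁ + w₂) = reflList Q vs w₁ + reflList Q vs w₂ := by
  induction vs with
  | nil => rfl
  | cons v vs ih =>
    show refl Q v (reflList Q vs (w₁ + w₂)) = refl Q v (reflList Q vs w₁) +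
      refl Q v (reflList Q vs w₂)
    rw [ih, refl_add]

theorem reflList_smul (Q : QuadraticForm F V) (vs : List V) (w : V) (c : F) :
    reflList Q vs (c • w) = c • reflList Q vs w := by
  induction vs with
  | nil => rfl
  | cons v vs ih =>
    show refl Q v (reflList Q vs (c • w)) = c • refl Q v (reflList Q vs w)
    rw [ih, refl_smul]

theorem refl_fix (Q : QuadraticForm F V) (v x : V) (h : polar Q v x = 0) : refl Q v x = x := by
  unfold SpinClifford.refl
  rw [h, mul_zero, zero_smul, sub_zero]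

/-- **an isometry squaring to `-1` as a product of reflections** -/
theorem exists_reflList_of_neg_sq [FiniteDimensional F V] (h2 : (2 : F) ≠ 0)
    (Q : QuadraticForm F V) (g : V →ₗ[F] V) (hiso : ∀ x, Q (g x) = Q x)
    (hgg : ∀ v, g (g v) = -v) :
    ∀ (k : ℕ) (U : Submodule F V), finrank F U = 2 * k → (∀ x ∈ U, g x ∈ U) → NdOn Q U →
      ∃ vs : List V, (∀ v ∈ vs, v ∈ U ∧ Q v ≠ 0) ∧ vs.length = 2 * k ∧
        (∃ s : F, s ≠ 0 ∧ (vs.map Q).prod = 2 ^ k * s ^ 2) ∧
        (∀ x ∈ U, reflList Q vs x = g x) ∧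
        ∀ x, (∀ u ∈ U, polar Q u x = 0) → reflList Q vs x = x := by
  intro k
  induction k with
  | zero =>
    intro U hk _ _
    have hbot : U = ⊥ := Submodule.finrank_eq_zero.1 (by rw [hk])
    subst hbot
    refine ⟨[], by simp, rfl, ⟨1, one_ne_zero, by simp⟩, ?_, fun x _ => rfl⟩
    intro x hx
    rw [(Submodule.mem_bot F).1 hx, map_zero]
    rfl
  | succ k ih =>
    intro U hk hUg hU
    obtain ⟨v, hvU, hv, U', hU'U, hU'g, hU'nd, hU'd, horth, hdisj, hsup, hdec⟩ :=
      neg_sq_step h2 Q g hiso hgg U hUg hU (by omega)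
    obtain ⟨vs', hvs', hlen, ⟨s, hs0, hprod⟩, hact, hfix⟩ := ih U' (by omega) hU'g hU'nd
    have hvgv := polar_self_neg_sq h2 Q g hiso hgg v
    have hgvv : polar Q (g v) v = 0 := by rw [polar_comm]; exact hvgv
    have hgvgv : polar Q (g v) (g v) = 2 * Q v := by rw [polar_self_eq, hiso]
    have hQu : Q (v + g v) = 2 * Q v := by
      rw [QuadraticMap.map_add Q v (g v), hiso, hvgv]
      ring
    have hβ : (2 : F) * Q v ≠ 0 := mul_ne_zero h2 hv
    refine ⟨(v + g v) :: v :: vs', ?_, ?_, ⟨Q v * s, mul_ne_zero hv hs0, ?_⟩, ?_, ?_⟩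
    · intro w hw
      rcases List.mem_cons.1 hw with rfl | hw
      · exact ⟨U.add_mem hvU (hUg v hvU), by rw [hQu]; exact hβ⟩
      rcases List.mem_cons.1 hw with rfl | hw
      · exact ⟨hvU, hv⟩
      · exact ⟨hU'U (hvs' w hw).1, (hvs' w hw).2⟩
    · rw [List.length_cons, List.length_cons, hlen]
      ring
    · rw [List.map_cons, List.map_cons, List.prod_cons, List.prod_cons, hprod, hQu]
      ring
    · intro x hx
      obtain ⟨a, b, u', hu', rfl⟩ := hdec x hx
      have hgu' := hU'g u' hu'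
      have e1 : reflList Q vs' (a • v + b • g v + u') = a • v + b • g v + g u' := by
        rw [reflList_add, reflList_add, reflList_smul, reflList_smul, hact u' hu',
          hfix v (fun u hu => by rw [polar_comm]; exact (horth u hu).1),
          hfix (g v) (fun u hu => by rw [polar_comm]; exact (horth u hu).2)]
      have p1 : polar Q v (a • v + b • g v + g u') = a * (2 * Q v) := by
        rw [polar_add_right, polar_add_right, polar_smul_right, polar_smul_right, polar_self_eq,
          hvgv, (horth _ hgu').1, smul_eq_mul, smul_eq_mul, mul_zero, add_zero, add_zero]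
      have e2 : refl Q v (a • v + b • g v + g u') = (-a) • v + b • g v + g u' := by
        unfold SpinClifford.refl
        rw [p1]
        have : (Q v)⁻¹ * (a * (2 * Q v)) = 2 * a := by
          field_simp
        rw [this]
        module
      have p2 : polar Q (v + g v) ((-a) • v + b • g v + g u') = (b - a) * (2 * Q v) := by
        rw [polar_add_left, polar_add_right, polar_add_right, polar_add_right, polar_add_right,
          polar_smul_right, polar_smul_right, polar_smul_right, polar_smul_right, polar_self_eq,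
          hvgv, hgvv, hgvgv, (horth _ hgu').1, (horth _ hgu').2, smul_eq_mul, smul_eq_mul,
          smul_eq_mul, smul_eq_mul]
        ring
      have e3 : refl Q (v + g v) ((-a) • v + b • g v + g u') = (-b) • v + a • g v + g u' := by
        unfold SpinClifford.refl
        rw [p2, hQu]
        have : (2 * Q v)⁻¹ * ((b - a) * (2 * Q v)) = b - a := by
          field_simp
        rw [this]
        module
      show refl Q (v + g v) (refl Q v (reflList Q vs' (a • v + b • g v + u'))) = _
      rw [e1, e2, e3, map_add, map_add, map_smul, map_smul, hgg]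
      module
    · intro x hx
      show refl Q (v + g v) (refl Q v (reflList Q vs' x)) = x
      rw [hfix x (fun u hu => hx u (hU'U hu)), refl_fix Q v x (hx v hvU), refl_fix]
      rw [polar_add_left, hx v hvU, hx (g v) (hUg v hvU), add_zero]

end neg

end Cfsg.Agent.Lib.Helper5.OParab
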