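import Mathlib
import Cfsg.Agent.Lib.Helper5.OParab.Neg
import Cfsg.Agent.Lib.Helper5.OmegaCrit

set_option autoImplicit false

/-!
# Isometries squaring to `-1`: the sign of the space and membership in `Ω`
-/

namespace Cfsg.Agent.Lib.Helper5.OParab

open QuadraticMap Module Cfsg
open Cfsg.Agent.Lib.Helper5.QuadTwo Cfsg.Agent.Lib.Helper5.QuadSign
open Cfsg.Agent.Lib.Helper5.OrthPrime Cfsg.Agent.Lib.Helper5.OElus
open Cfsg.Agent.Lib.Helper5.SpinClifford

universe u

section sign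
variable {F : Type u} [Field F] [Fintype F] {V : Type u} [AddCommGroup V] [Module F V]
  [FiniteDimensional F V]

omit [FiniteDimensional F V] in
theorem hasSign_top_iff (Q : QuadraticForm F V) (k : ℕ) (s : ℤ) :
    HasSign (res Q ⊤) k s ↔ HasSign Q k s :=
  hasSign_congr (Submodule.topEquiv (R := F) (M := V)).toEquiv (res Q ⊤) Q (fun _ => rfl) k s

omit [Fintype F] [FiniteDimensional F V] in
theorem ndOn_top (Q : QuadraticForm F V) (hQ : Nd Q) : NdOn Q ⊤ :=
  fun v _ hv => hQ v (fun w => hv w Submodule.mem_top)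

/-- **the sign of a space with an isometry squaring to `-1`** -/
theorem hasSign_of_neg_sq (hq : Odd (Fintype.card F)) (Q : QuadraticForm F V) (hQ : Nd Q)
    (g : V →ₗ[F] V) (hiso : ∀ x, Q (g x) = Q x) (hgg : ∀ v, g (g v) = -v) (d : ℕ)
    (hd1 : 1 ≤ d) (hk : finrank F V = 2 * d) :
    HasSign Q d (if Even (d * (Fintype.card F - 1) / 2) then 1 else -1) := by
  have h2 : (2 : F) ≠ 0 := Cfsg.Agent.Lib.Helper5.two_ne_zero_of_odd_card hq
  have hk' : finrank F (⊤ : Submodule F V) = 2 * d := by rw [finrank_top, hk]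
  have hnd := ndOn_top Q hQ
  obtain ⟨δ, hδ, hsq⟩ := exists_disc_sq_of_neg_sq h2 Q g hiso hgg d ⊤ hk'
    (fun _ _ => Submodule.mem_top) hnd
  have h1 := plusOn_iff_disc hq Q ⊤ d hd1 hk' hnd hδ
  split_ifs with hE
  · rw [← hasSign_top_iff, ← plusOn_iff_hasSign Q ⊤ d hk' hnd, h1]
    exact ⟨fun _ => hE, fun _ => hsq⟩
  · rw [← hasSign_top_iff, ← not_plusOn_iff_hasSign Q ⊤ d hk' hnd, h1]
    intro h
    exact hE (h.1 hsq)

end sign

section omega
variable {F : Type u} [Field F] [Fintype F] {ι : Type} [Fintype ι] [DecidableEq ι]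

/-- **membership in `Ω` of an isometry squaring to `-1`** -/
theorem mem_Omega_iff_of_neg_sq (h2 : (2 : F) ≠ 0) (Q : QuadraticForm F (ι → F)) (hQ : Nd Q)
    (d : ℕ) (hd1 : 1 ≤ d) (hcard : Fintype.card ι = 2 * d)
    (g : ↥(Cfsg.isometryGroup F ⇑Q))
    (hgg : ((g : GL ι F) : Matrix ι ι F) * ((g : GL ι F) : Matrix ι ι F) = -1) :
    g ∈ Cfsg.Omega F ⇑Q ↔ IsSquare ((2 : F) ^ d) := by
  have hQ' : (polarBilin Q).Nondegenerate := by
    constructor
    · intro x hx
      apply hQ x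
      intro w
      have := hx w
      rwa [polarBilin_apply_apply, polar_comm] at this
    · intro y hy
      apply hQ y
      intro w
      have := hy w
      rwa [polarBilin_apply_apply] at this
  obtain ⟨lin, hlin⟩ : ∃ lin : (ι → F) →ₗ[F] (ι → F),
      lin = Matrix.toLin' ((g : GL ι F) : Matrix ι ι F) := ⟨_, rfl⟩
  have hiso : ∀ x, Q (lin x) = Q x := by
    intro x
    rw [hlin, Matrix.toLin'_apply]
    exact (Cfsg.Agent.Lib.Helper5.OrthCard.mem_isometryGroup_iff (⇑Q) g).1 g.2 x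
  have hlgg : ∀ v, lin (lin v) = -v := by
    intro v
    rw [hlin, Matrix.toLin'_apply, Matrix.toLin'_apply, Matrix.mulVec_mulVec, hgg,
      Matrix.neg_mulVec, Matrix.one_mulVec]
  have hk : finrank F (⊤ : Submodule F (ι → F)) = 2 * d := by
    rw [finrank_top, Module.finrank_fintype_fun_eq_card, hcard]
  obtain ⟨vs, hvs, hlen, ⟨s, hs0, hprod⟩, hact, -⟩ := exists_reflList_of_neg_sq h2 Q lin hiso
    hlgg d ⊤ hk (fun _ _ => Submodule.mem_top) (ndOn_top Q hQ)
  have hrep : Cfsg.Agent.Lib.Helper5.SpinorNorm.IsRep Q g vs := by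
    refine ⟨fun v hv => (hvs v hv).2, ?_⟩
    apply Matrix.toLin'.injective
    apply LinearMap.ext
    intro w
    rw [Matrix.toLin'_apply, Matrix.toLin'_apply,
      Cfsg.Agent.Lib.Helper5.SpinorNorm.rprod_mulVec, hact w Submodule.mem_top, hlin,
      Matrix.toLin'_apply]
  rw [Cfsg.Agent.Lib.Helper5.OmegaCrit.mem_Omega_iff Q hQ'
    (fun _ => ⟨-1, neg_ne_zero.2 one_ne_zero, fun h => h2 (by linear_combination -h)⟩)
    (by omega) g vs hrep, hlen, hprod]
  constructor
  · rintro ⟨-, t, ht⟩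
    refine ⟨t / s, ?_⟩
    field_simp
    linear_combination ht
  · rintro ⟨t, ht⟩
    exact ⟨even_two_mul d, t * s, by rw [ht]; ring⟩

end omega

end Cfsg.Agent.Lib.Helper5.OParab
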