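import Mathlib
import Cfsg.Agent.Lib.Helper5.OParab.NegOmega
import Cfsg.Agent.Lib.Helper5.MaxTS
import Cfsg.Agent.Lib.Helper5.OUnip.Basic

set_option autoImplicit false

/-!
# Unipotent isometries `x` with `(x - 1)² = 0` on a nondegenerate space of odd dimension
-/

namespace Cfsg.Agent.Lib.Helper5.OParab

open QuadraticMap Module Cfsg
open Cfsg.Agent.Lib.Helper5.QuadTwo Cfsg.Agent.Lib.Helper5.QuadSign
open Cfsg.Agent.Lib.Helper5.OrthPrime Cfsg.Agent.Lib.Helper5.OElus

universe u

section an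
variable {F : Type u} [Field F] [Fintype F] {V : Type u} [AddCommGroup V] [Module F V]
  [FiniteDimensional F V]

omit [Fintype F] [FiniteDimensional F V] in
/-- the discriminant of a space of dimension zero -/
theorem isSquare_disc_of_finrank_zero (B : V →ₗ[F] V →ₗ[F] F) (h0 : finrank F V = 0) {δ : F}
    (hδ : IsDisc B δ) : δ = 1 := by
  obtain ⟨n, b, rfl⟩ := hδ
  have hn : n = 0 := by
    have h1 := Module.finrank_eq_card_basis b
    rw [Fintype.card_fin] at h1
    omega
  subst hn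
  exact Matrix.det_isEmpty

omit [Fintype F] [FiniteDimensional F V] in
/-- the discriminant of a line -/
theorem isDisc_span_singleton (B : V →ₗ[F] V →ₗ[F] F) (k₀ : V) (hk₀ : k₀ ≠ 0) :
    IsDisc (resForm B (Submodule.span F {k₀})) (B k₀ k₀) := by
  have hli : LinearIndependent F (fun _ : Fin 1 => k₀) := LinearIndependent.of_subsingleton 0 hk₀
  have hrange : Set.range (fun _ : Fin 1 => k₀) = {k₀} := Set.range_const
  rw [← hrange]
  refine ⟨1, Basis.span hli, ?_⟩
  rw [Matrix.det_fin_one, gram_apply, resForm_apply, Basis.coe_span_apply]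

/-- **a unipotent isometry with `(x - 1)² = 0` on a nondegenerate space of odd dimension, all of
whose fixed vectors `c` have `4 α Q(c) = ℓ(c)²`**: the dimension is `1` modulo `4` and the
discriminant is `2 α` -/
theorem disc_of_sq_zero (hq : Odd (Fintype.card F)) (Q : QuadraticForm F V) (hQ : Nd Q)
    (x : V →ₗ[F] V) (hiso : ∀ v, Q (x v) = Q v) (hN2 : ∀ v, x (x v - v) = x v - v)
    (hodd : Odd (finrank F V)) (ℓ : V →ₗ[F] F) (α : F) (hα : α ≠ 0)
    (hP1 : ∀ c, x c = c → 4 * α * Q c = (ℓ c) ^ 2) :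
    finrank F V % 4 = 1 ∧ ∃ δ : F, IsDisc (polarBilin Q) δ ∧
      ∃ s : F, s ≠ 0 ∧ δ = 2 * α * s ^ 2 := by
  have h2 : (2 : F) ≠ 0 := Cfsg.Agent.Lib.Helper5.two_ne_zero_of_odd_card hq
  have h4 : (4 : F) ≠ 0 := by
    have : (4 : F) = 2 * 2 := by norm_num
    rw [this]
    exact mul_ne_zero h2 h2
  have hQ' : (polarBilin Q).Nondegenerate := by
    constructor
    · intro a ha
      apply hQ a
      intro w
      have := ha w
      rwa [polarBilin_apply_apply, polar_comm] at this
    · intro y hy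
      apply hQ y
      intro w
      have := hy w
      rwa [polarBilin_apply_apply] at this
  have hS : Symm (polarBilin Q) := symm_polarBilin Q
  have hBnd : Nondeg (polarBilin Q) := fun v hv => hQ v (fun w => by
    have := hv w
    rwa [polarBilin_apply_apply] at this)
  obtain ⟨N, hNdef⟩ : ∃ N : V →ₗ[F] V, N = x - 1 := ⟨_, rfl⟩
  have hNapp : ∀ v, N v = x v - v := fun v => by
    rw [hNdef, LinearMap.sub_apply, Module.End.one_apply]
  have hfixN : ∀ v, x (N v) = N v := fun v => by rw [hNapp]; exact hN2 v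
  have hpol : ∀ u v, polar Q (x u) (x v) = polar Q u v := polar_gg Q x hiso
  have hperp : ∀ a k, x k = k → polar Q (N a) k = 0 := by
    intro a k hk
    rw [hNapp, polar_sub_left]
    nth_rewrite 1 [← hk]
    rw [hpol, sub_self]
  have hsingN : ∀ v, Q (N v) = 0 := by
    intro v
    have h := hperp v (N v) (hfixN v)
    rw [polar_self_eq] at h
    exact (mul_eq_zero.1 h).resolve_left h2
  have halt : ∀ u, polar Q u (N u) = 0 := by
    intro u
    have h := hiso u
    have hxu : x u = u + N u := by rw [hNapp]; abel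
    rw [hxu, QuadraticMap.map_add Q u (N u), hsingN] at h
    linear_combination h
  have hev := Cfsg.Agent.Lib.Helper5.OUnip.even_rank_of_alt (B := polarBilin Q)
    (fun a b => hS a b) (fun a ha => hQ a (fun w => by
      have := ha w
      rwa [polarBilin_apply_apply, polar_comm] at this)) N
    (fun u => by rw [polarBilin_apply_apply]; exact halt u)
  have memK : ∀ v, v ∈ LinearMap.ker N ↔ x v = v := by
    intro v
    rw [LinearMap.mem_ker, hNapp, sub_eq_zero]
  obtain ⟨K₁, hK₁⟩ : ∃ K₁ : Submodule F V, K₁ = LinearMap.ker N ⊓ LinearMap.ker ℓ := ⟨_, rfl⟩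
  have hIK₁ : LinearMap.range N ≤ K₁ := by
    rintro _ ⟨v, rfl⟩
    rw [hK₁]
    refine Submodule.mem_inf.2 ⟨(memK _).2 (hfixN v), ?_⟩
    rw [LinearMap.mem_ker]
    have h := hP1 (N v) (hfixN v)
    rw [hsingN, mul_zero] at h
    exact pow_eq_zero_iff (two_ne_zero) |>.1 h.symm
  have hK₁ts : ∀ c ∈ K₁, Q c = 0 := by
    intro c hc
    rw [hK₁] at hc
    obtain ⟨hcK, hcℓ⟩ := Submodule.mem_inf.1 hc
    have h := hP1 c ((memK c).1 hcK)
    rw [LinearMap.mem_ker.1 hcℓ, zero_pow two_ne_zero] at h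
    exact (mul_eq_zero.1 h).resolve_left (mul_ne_zero h4 hα)
  have hrn := LinearMap.finrank_range_add_finrank_ker N
  have hts : 2 * finrank F K₁ ≤ finrank F V := by
    have h1 := Submodule.finrank_mono (Cfsg.Agent.Lib.Helper5.MaxTS.le_orth_of_ts Q K₁ hK₁ts)
    have h2' := Cfsg.Agent.Lib.Helper5.MaxTS.finrank_orth Q hQ' K₁
    have h3 := Submodule.finrank_le K₁
    omega
  have hKK₁ : finrank F (LinearMap.ker N) ≤ finrank F K₁ + 1 := by
    have h3 := Submodule.finrank_sup_add_finrank_inf_eq (LinearMap.ker N) (LinearMap.ker ℓ)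
    have h4' := LinearMap.finrank_range_add_finrank_ker ℓ
    have h5 : finrank F (LinearMap.range ℓ) ≤ 1 :=
      (Submodule.finrank_le _).trans (by rw [Module.finrank_self])
    have h6 := Submodule.finrank_le (LinearMap.ker N ⊔ LinearMap.ker ℓ)
    rw [← hK₁] at h3
    omega
  have hIle := Submodule.finrank_mono hIK₁
  obtain ⟨j, hj⟩ := hev
  obtain ⟨t, ht⟩ := hodd
  have hn : finrank F V = 2 * finrank F (LinearMap.range N) + 1 := by omega
  have hfK : finrank F (LinearMap.ker N) = finrank F K₁ + 1 := by omega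
  refine ⟨by omega, ?_⟩
  obtain ⟨k₀, hk₀K, hk₀ℓ⟩ : ∃ k₀ ∈ LinearMap.ker N, ℓ k₀ ≠ 0 := by
    by_contra hcon
    push Not at hcon
    have h1 : LinearMap.ker N ≤ K₁ := fun c hc => by
      rw [hK₁]
      exact Submodule.mem_inf.2 ⟨hc, LinearMap.mem_ker.2 (hcon c hc)⟩
    have := Submodule.finrank_mono h1
    omega
  have hQk₀ : 4 * α * Q k₀ = (ℓ k₀) ^ 2 := hP1 k₀ ((memK k₀).1 hk₀K)
  have hQk₀ne : Q k₀ ≠ 0 := by
    intro h
    rw [h, mul_zero] at hQk₀
    exact hk₀ℓ (pow_eq_zero_iff two_ne_zero |>.1 hQk₀.symm)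
  have hk₀ne : k₀ ≠ 0 := by
    rintro rfl
    exact hQk₀ne (QuadraticMap.map_zero Q)
  have hBk₀ : polarBilin Q k₀ k₀ ≠ 0 := by
    rw [polarBilin_apply_apply, polar_self_eq]
    exact mul_ne_zero h2 hQk₀ne
  obtain ⟨A', hA'⟩ : ∃ A' : Submodule F V, A' = LinearMap.ker (polarBilin Q k₀) := ⟨_, rfl⟩
  have hA'nd : Nondeg (resForm (polarBilin Q) A') := by
    rw [hA']
    exact nondeg_ker hBnd k₀ hBk₀
  have hA'd : finrank F A' + 1 = finrank F V := by
    rw [hA']
    exact finrank_ker_add_one (polarBilin Q) k₀ hBk₀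
  have hIA' : LinearMap.range N ≤ A' := by
    rintro _ ⟨v, rfl⟩
    rw [hA', LinearMap.mem_ker, polarBilin_apply_apply, polar_comm]
    exact hperp v k₀ ((memK k₀).1 hk₀K)
  obtain ⟨δ', hδ'⟩ := exists_isDisc (resForm (polarBilin Q) A')
  have hδ'sq : IsSquare δ' := by
    rcases Nat.eq_zero_or_pos (finrank F (LinearMap.range N)) with h0 | hpos
    · rw [isSquare_disc_of_finrank_zero _ (by omega) hδ']
      exact IsSquare.one
    · have hpl : PlusOn Q A' := ⟨LinearMap.range N, hIA', fun u hu => by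
        obtain ⟨v, rfl⟩ := hu
        exact hsingN v, by omega⟩
      have h1 := plusOn_iff_disc hq Q A' (finrank F (LinearMap.range N)) hpos (by omega)
        ((nondeg_res_iff Q A').1 hA'nd) hδ'
      apply (h1.1 hpl).2
      rw [hj, ← two_mul, mul_assoc, Nat.mul_div_cancel_left _ (by norm_num : 0 < 2)]
      obtain ⟨s, hs⟩ := hq
      rw [hs, Nat.add_sub_cancel]
      exact (even_two_mul s).mul_left j
  have hδ'ne : δ' ≠ 0 := hδ'.ne_zero (symm_resForm hS A') hA'nd
  have hdisj : Disjoint (Submodule.span F {k₀}) A' := by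
    rw [Submodule.disjoint_def]
    intro v hv hvA
    obtain ⟨c, rfl⟩ := Submodule.mem_span_singleton.1 hv
    rw [hA', LinearMap.mem_ker, map_smul, smul_eq_mul] at hvA
    rw [(mul_eq_zero.1 hvA).resolve_right hBk₀, zero_smul]
  have hcompl : IsCompl (Submodule.span F {k₀}) A' := by
    refine ⟨hdisj, codisjoint_iff.2 ?_⟩
    apply Submodule.eq_top_of_disjoint _ _ _ hdisj
    rw [finrank_span_singleton hk₀ne]
    omega
  have hdisc := isDisc_of_isCompl hS hcompl (fun u hu w hw => by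
    obtain ⟨c, rfl⟩ := Submodule.mem_span_singleton.1 hu
    rw [hA', LinearMap.mem_ker] at hw
    rw [map_smul, LinearMap.smul_apply, hw, smul_zero])
    (isDisc_span_singleton (polarBilin Q) k₀ hk₀ne) hδ'
  obtain ⟨t', ht'⟩ := hδ'sq
  have ht'ne : t' ≠ 0 := by
    rintro rfl
    rw [mul_zero] at ht'
    exact hδ'ne ht'
  refine ⟨_, hdisc, ℓ k₀ * t' / (2 * α), ?_, ?_⟩
  · exact div_ne_zero (mul_ne_zero hk₀ℓ ht'ne) (mul_ne_zero h2 hα)
  · rw [polarBilin_apply_apply, polar_self_eq, ht']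
    field_simp
    linear_combination hQk₀

end an

end Cfsg.Agent.Lib.Helper5.OParab
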