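import Mathlib
import Cfsg.Agent.Lib.Helper5.OParab.UnipAn

set_option autoImplicit false

/-!
# Unipotent isometries with `(x - 1)² V` inside a line: invariant nondegenerate subspaces of odd
dimension
-/

namespace Cfsg.Agent.Lib.Helper5.OParab

open QuadraticMap Module Cfsg
open Cfsg.Agent.Lib.Helper5.QuadTwo Cfsg.Agent.Lib.Helper5.QuadSign
open Cfsg.Agent.Lib.Helper5.OrthPrime Cfsg.Agent.Lib.Helper5.OElus

universe u

section an2
variable {F : Type u} [Field F] [Fintype F] {V : Type u} [AddCommGroup V] [Module F V]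
  [FiniteDimensional F V]

/-- the subspace version of `disc_of_sq_zero` -/
theorem disc_of_sq_zero_sub (hq : Odd (Fintype.card F)) (Q : QuadraticForm F V)
    (x : V →ₗ[F] V) (hiso : ∀ v, Q (x v) = Q v) (A : Submodule F V) (hA : NdOn Q A)
    (hAx : ∀ v ∈ A, x v ∈ A) (hN2 : ∀ v ∈ A, x (x v - v) = x v - v)
    (hodd : Odd (finrank F A)) (w₁ : V) (α : F) (hα : α ≠ 0)
    (hP1 : ∀ c ∈ A, x c = c → 4 * α * Q c = (polar Q w₁ c) ^ 2) :
    finrank F A % 4 = 1 ∧ ∃ δ : F, IsDisc (resForm (polarBilin Q) A) δ ∧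
      ∃ s : F, s ≠ 0 ∧ δ = 2 * α * s ^ 2 := by
  have hres : polarBilin (res Q A) = resForm (polarBilin Q) A := by
    apply LinearMap.ext
    intro a
    apply LinearMap.ext
    intro b
    rw [polarBilin_apply_apply, polar_res, resForm_apply, polarBilin_apply_apply]
  have h := disc_of_sq_zero hq (res Q A) ((nd_res_iff Q A).2 hA) (x.restrict hAx)
    (fun v => by
      rw [res_apply, res_apply, LinearMap.coe_restrict_apply]
      exact hiso _)
    (fun v => by
      apply Subtype.ext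
      have := hN2 v.1 v.2
      simpa using this)
    hodd ((polarBilin Q w₁).comp A.subtype) α hα
    (fun c hc => by
      have hc' : x c.1 = c.1 := by
        have := congrArg Subtype.val hc
        simpa using this
      have := hP1 c.1 c.2 hc'
      rw [res_apply, LinearMap.comp_apply, Submodule.subtype_apply, polarBilin_apply_apply]
      exact this)
  rw [hres] at h
  exact h

/-- **no invariant nondegenerate subspace of odd dimension with the wrong discriminant**, for a
unipotent isometry `x` of a space of dimension divisible by `4` with `(x - 1)² V` inside a line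
all of whose fixed vectors `c` have `4 α Q(c) = B(w₁, c)²` -/
theorem no_inv_sub (hq : Odd (Fintype.card F)) (Q : QuadraticForm F V) (hQ : Nd Q)
    (x : V →ₗ[F] V) (hiso : ∀ v, Q (x v) = Q v) (e₀ : V)
    (hN2 : ∀ v, ∃ c : F, x (x v - v) - (x v - v) = c • e₀)
    (w₁ : V) (α : F) (hα : α ≠ 0) (hP1 : ∀ c, x c = c → 4 * α * Q c = (polar Q w₁ c) ^ 2)
    (hdim : finrank F V % 4 = 0) (δV : F) (hδV : IsDisc (polarBilin Q) δV)
    (W : Submodule F V) (hWodd : Odd (finrank F W)) (hWnd : NdOn Q W)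
    (hWinv : ∀ v ∈ W, x v ∈ W)
    (δ₀ : F) (hδ₀ : IsDisc (resForm (polarBilin Q) W) δ₀)
    (hbad1 : finrank F W % 4 = 1 → ¬ ∃ s : F, s ≠ 0 ∧ δ₀ = 2 * α * s ^ 2)
    (hbad3 : finrank F W % 4 = 3 → ¬ ∃ s : F, s ≠ 0 ∧ δ₀ * δV = 2 * α * s ^ 2) : False := by
  have hS : Symm (polarBilin Q) := symm_polarBilin Q
  have hBnd : Nondeg (polarBilin Q) := fun v hv => hQ v (fun w => by
    have := hv w
    rwa [polarBilin_apply_apply] at this)
  have hpol : ∀ u v, polar Q (x u) (x v) = polar Q u v := polar_gg Q x hiso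
  -- `x` is injective
  have hinj : Function.Injective ⇑x := by
    rw [← LinearMap.ker_eq_bot, LinearMap.ker_eq_bot']
    intro v hv
    apply hQ v
    intro w
    rw [← hpol, hv, polar_zero_right]
  have hmap : W.map x = W := by
    apply Submodule.eq_of_le_of_finrank_eq
    · rintro _ ⟨w, hw, rfl⟩
      exact hWinv w hw
    · exact LinearEquiv.finrank_eq (Submodule.equivMapOfInjective x hinj W).symm
  -- the complement
  have hrefl : LinearMap.IsRefl (polarBilin Q) := fun a b h => by rw [hS]; exact h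
  have hrefl' : (LinearMap.BilinForm.restrict (polarBilin Q) W).IsRefl :=
    fun a b h => hrefl a.1 b.1 h
  have hWnd' : (LinearMap.BilinForm.restrict (polarBilin Q) W).Nondegenerate := by
    refine (hrefl'.nondegenerate_iff_separatingLeft).2 ?_
    intro a ha
    apply Subtype.ext
    apply hWnd a.1 a.2
    intro w hw
    have := ha ⟨w, hw⟩
    rw [polar_comm]
    exact this
  obtain ⟨W', hW'def⟩ : ∃ W' : Submodule F V, W' = LinearMap.BilinForm.orthogonal (polarBilin Q) W := ⟨_, rfl⟩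
  have hc : IsCompl W W' := by
    rw [hW'def]
    exact LinearMap.BilinForm.isCompl_orthogonal_of_restrict_nondegenerate hrefl hWnd'
  have horth : ∀ u ∈ W, ∀ w ∈ W', polarBilin Q u w = 0 := by
    intro u hu w hw
    rw [hW'def, LinearMap.BilinForm.mem_orthogonal_iff] at hw
    exact hw u hu
  have hW'inv : ∀ v ∈ W', x v ∈ W' := by
    intro v hv
    rw [hW'def, LinearMap.BilinForm.mem_orthogonal_iff]
    intro w hw
    rw [← hmap] at hw
    obtain ⟨w₀, hw₀, rfl⟩ := hw
    show polarBilin Q (x w₀) (x v) = 0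
    rw [polarBilin_apply_apply, hpol, ← polarBilin_apply_apply]
    exact horth w₀ hw₀ v hv
  have hW'nd : NdOn Q W' := by
    apply (nondeg_res_iff Q W').1
    exact nondeg_of_isCompl hS hBnd hc.symm (fun u hu w hw => by
      rw [hS]
      exact horth w hw u hu)
  have hsum : finrank F W + finrank F W' = finrank F V := Submodule.finrank_add_eq_of_isCompl hc
  have hδ₀0 : δ₀ ≠ 0 := hδ₀.ne_zero (symm_resForm hS W) ((nondeg_res_iff Q W).2 hWnd)
  have hW'odd : Odd (finrank F W') := by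
    rcases hWodd with ⟨k, hk⟩
    rw [Nat.odd_iff]
    omega
  -- the square of `x - 1` on `W`
  have hN2mem : ∀ (A : Submodule F V), (∀ v ∈ A, x v ∈ A) → ∀ v ∈ A,
      x (x v - v) - (x v - v) ∈ A := by
    intro A hA v hv
    have h1 : x v - v ∈ A := A.sub_mem (hA v hv) hv
    exact A.sub_mem (hA _ h1) h1
  by_cases hW2 : ∀ v ∈ W, x (x v - v) = x v - v
  · -- `(x - 1)²` vanishes on `W`
    obtain ⟨hm4, δ, hδ, s, hs, hδs⟩ := disc_of_sq_zero_sub hq Q x hiso W hWnd hWinv hW2 hWodd
      w₁ α hα (fun c _ hc => hP1 c hc)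
    obtain ⟨t, ht, hδt⟩ := hδ.unique hδ₀
    apply hbad1 hm4
    refine ⟨s * t, mul_ne_zero hs ht, ?_⟩
    rw [hδt, hδs]
    ring
  · -- `e₀ ∈ W`, so `(x - 1)²` vanishes on `W'`
    push Not at hW2
    obtain ⟨v₀, hv₀, hne⟩ := hW2
    obtain ⟨c₀, hc₀⟩ := hN2 v₀
    have hc₀0 : c₀ ≠ 0 := by
      rintro rfl
      rw [zero_smul, sub_eq_zero] at hc₀
      exact hne hc₀
    have he₀W : e₀ ∈ W := by
      have h1 := hN2mem W hWinv v₀ hv₀
      rw [hc₀] at h1
      have h2 := W.smul_mem c₀⁻¹ h1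
      rwa [smul_smul, inv_mul_cancel₀ hc₀0, one_smul] at h2
    have hW'2 : ∀ v ∈ W', x (x v - v) = x v - v := by
      intro v hv
      obtain ⟨c, hcv⟩ := hN2 v
      have h1 := hN2mem W' hW'inv v hv
      have h2 : x (x v - v) - (x v - v) ∈ W := by
        rw [hcv]
        exact W.smul_mem c he₀W
      have h3 : x (x v - v) - (x v - v) ∈ W ⊓ W' := Submodule.mem_inf.2 ⟨h2, h1⟩
      rw [hc.inf_eq_bot, Submodule.mem_bot] at h3
      exact sub_eq_zero.1 h3
    obtain ⟨hm4, δ, hδ, s, hs, hδs⟩ := disc_of_sq_zero_sub hq Q x hiso W' hW'nd hW'inv hW'2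
      hW'odd w₁ α hα (fun c _ hc => hP1 c hc)
    have hVd : IsDisc (polarBilin Q) (δ₀ * δ) := isDisc_of_isCompl hS hc horth hδ₀ hδ
    obtain ⟨t, ht, hδt⟩ := hVd.unique hδV
    have hm3 : finrank F W % 4 = 3 := by omega
    apply hbad3 hm3
    refine ⟨δ₀ * s * t, mul_ne_zero (mul_ne_zero hδ₀0 hs) ht, ?_⟩
    rw [hδt, hδs]
    ring

end an2

end Cfsg.Agent.Lib.Helper5.OParab
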