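import Mathlib
import Cfsg.Agent.Lib.Helper5.OParab.UnipAn2
import Cfsg.Agent.Lib.Helper5.OUnip.Odd
import Cfsg.Agent.Lib.Helper5.QuadIsom

set_option autoImplicit false

/-!
# A unipotent isometry with Jordan blocks `(3, 2, …, 2, 1)`: an Eichler transformation times a
unipotent isometry of the hyperbolic part
-/

namespace Cfsg.Agent.Lib.Helper5.OParab

open QuadraticMap Module Cfsg
open Cfsg.Agent.Lib.Helper5.QuadIsom

universe u

section cube
variable {F : Type u} [Field F] {V : Type u} [AddCommGroup V] [Module F V]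

/-- **the data of the unipotent isometry `x = E(e, w) ∘ (1 + M)`** -/
theorem cube_data (h2 : (2 : F) ≠ 0) (Q : QuadraticForm F V) (e w w₁ f : V) (M : V →ₗ[F] V)
    (he : Q e = 0) (hew : polar Q e w = 0) (hw : Q w ≠ 0)
    (hMiso : ∀ v, Q (v + M v) = Q v)
    (hMe : M e = 0) (hMw : M w = 0) (hMM : ∀ c, M (M c) = 0)
    (heM : ∀ c, polar Q e (M c) = 0) (hwM : ∀ c, polar Q w (M c) = 0)
    (hfe : polar Q e f = 1) (hfM : ∀ c, polar Q f (M c) = 0) (α : F)
    (hfix : ∀ c, M c = 0 → polar Q e c = 0 → polar Q w c = 0 →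
      4 * α * Q c = (polar Q w₁ c) ^ 2) :
    ∃ x : V →ₗ[F] V, (∀ v, Q (x v) = Q v) ∧
      (∀ v, ∃ c : F, x (x v - v) - (x v - v) = c • e) ∧
      (∀ c, x c = c → 4 * α * Q c = (polar Q w₁ c) ^ 2) ∧ (x - 1) ^ 3 = 0 ∧ x ≠ 1 := by
  have hee : polar Q e e = 0 := by
    rw [Cfsg.Agent.Lib.Helper5.OParab.polar_self_eq, he, mul_zero]
  have hwe : polar Q w e = 0 := by rw [polar_comm]; exact hew
  have hww : polar Q w w = 2 * Q w := Cfsg.Agent.Lib.Helper5.OParab.polar_self_eq Q w
  obtain ⟨x, hxdef⟩ : ∃ x : V →ₗ[F] V, x = eichlerMap Q e w ∘ₗ (1 + M) := ⟨_, rfl⟩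
  have hxapp : ∀ c, x c = c + M c + polar Q e c • w +
      (-(polar Q w c + Q w * polar Q e c)) • e := by
    intro c
    rw [hxdef, LinearMap.comp_apply, LinearMap.add_apply, Module.End.one_apply, eichlerMap_apply,
      polar_add_right, polar_add_right, heM, hwM, add_zero, add_zero]
  have hN : ∀ c, x c - c = M c + polar Q e c • w +
      (-(polar Q w c + Q w * polar Q e c)) • e := by
    intro c
    rw [hxapp]
    abel
  have hNN : ∀ c, x (x c - c) - (x c - c) = (-(2 * Q w * polar Q e c)) • e := by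
    intro c
    rw [hN (x c - c), hN c]
    simp only [map_add, map_smul, hMM, hMw, hMe, polar_add_right, polar_smul_right, heM, hwM,
      hew, hee, hwe, hww, smul_zero, add_zero, zero_add, mul_zero, smul_eq_mul, zero_smul]
    congr 1
    ring
  have hNe : x e - e = 0 := by
    rw [hN e, hMe, hee, hwe, zero_smul, mul_zero, add_zero, add_zero, neg_zero, zero_smul,
      add_zero]
  refine ⟨x, ?_, ?_, ?_, ?_, ?_⟩
  · intro v
    rw [hxdef, LinearMap.comp_apply, eichlerMap_isom Q e w he hew, LinearMap.add_apply,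
      Module.End.one_apply]
    exact hMiso v
  · intro v
    exact ⟨_, hNN v⟩
  · intro c hc
    have h0 : M c + polar Q e c • w + (-(polar Q w c + Q w * polar Q e c)) • e = 0 := by
      rw [← hN c, hc, sub_self]
    have h1 : polar Q e c = 0 := by
      have := congrArg (polar Q w) h0
      rw [polar_add_right, polar_add_right, polar_smul_right, polar_smul_right, hwM, hwe, hww,
        polar_zero_right, smul_eq_mul, smul_eq_mul, mul_zero, add_zero, zero_add] at this
      rcases mul_eq_zero.1 this with h | h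
      · exact h
      · exact absurd ((mul_eq_zero.1 h).resolve_left h2) hw
    rw [h1, zero_smul, add_zero, mul_zero, add_zero] at h0
    have h3 : polar Q w c = 0 := by
      have := congrArg (polar Q f) h0
      rw [polar_add_right, polar_smul_right, hfM, polar_comm Q f e, hfe, polar_zero_right,
        smul_eq_mul, mul_one, zero_add, neg_eq_zero] at this
      exact this
    rw [h3, neg_zero, zero_smul, add_zero] at h0
    exact hfix c h0 h1 h3
  · apply LinearMap.ext
    intro v
    have h1 : ∀ u, (x - 1) u = x u - u := fun u => by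
      rw [LinearMap.sub_apply, Module.End.one_apply]
    rw [pow_succ, pow_two, Module.End.mul_apply, Module.End.mul_apply, h1 v, h1 (x v - v),
      h1 (x (x v - v) - (x v - v)), hNN v, map_smul, ← smul_sub, hNe, smul_zero,
      LinearMap.zero_apply]
  · intro hx1
    have h0 := hN f
    rw [hx1, Module.End.one_apply, sub_self, hfe, one_smul, mul_one] at h0
    have := congrArg (polar Q w) h0
    rw [polar_add_right, polar_add_right, polar_smul_right, hwM, hwe, hww, polar_zero_right,
      smul_eq_mul, mul_zero, add_zero, zero_add] at this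
    exact hw ((mul_eq_zero.1 this.symm).resolve_left h2)

end cube

section gl
variable {F : Type u} [Field F] {ι : Type} [Fintype ι] [DecidableEq ι]

/-- a linear isometry of order `p` (odd) of `F^ι` as an element of `Ω` -/
theorem exists_gl_of_unipotent {p : ℕ} (hpodd : Odd p) (h2 : (2 : F) ≠ 0)
    (Q : QuadraticForm F (ι → F)) (hQ : (polarBilin Q).Nondegenerate)
    (x : (ι → F) →ₗ[F] (ι → F)) (hxQ : ∀ v, Q (x v) = Q v) (hxp : x ^ p = 1) :
    ∃ g : GL ι F, g ∈ Cfsg.Geo.omegaGL ⇑Q ∧ g ^ p = 1 ∧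
      Matrix.toLin' (g : Matrix ι ι F) = x := by
  have hp0 : p ≠ 0 := by
    rintro rfl
    exact absurd hpodd (by decide)
  have hxu : IsUnit x := IsUnit.of_pow_eq_one hxp hp0
  obtain ⟨A, hA⟩ := OrthCard.exists_isom_of_linearEquiv Q
    (LinearMap.GeneralLinearGroup.generalLinearEquiv F _ hxu.unit) (fun v => hxQ v)
  have hAl : Matrix.toLin' ((A : GL ι F) : Matrix ι ι F) = x := by
    apply LinearMap.ext
    intro v
    rw [Matrix.toLin'_apply]
    exact hA v
  have hAp : A ^ p = 1 := by
    apply Subtype.ext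
    apply Units.ext
    apply Matrix.toLin'.injective
    show Matrix.toLin' (((A : GL ι F) : Matrix ι ι F) ^ p) = Matrix.toLin' (1 : Matrix ι ι F)
    rw [Cfsg.Agent.Lib.Helper2.SpImp.toLin'_pow_gen, hAl, Matrix.toLin'_one, hxp]
    rfl
  have hAΩ : A ∈ Omega F ⇑Q := Cfsg.Agent.Lib.Helper5.OUnip.mem_Omega_of_pow h2 Q hQ A hpodd hAp
  refine ⟨(A : GL ι F), Subgroup.mem_map.2 ⟨A, hAΩ, rfl⟩, ?_, hAl⟩
  have := congrArg Subtype.val hAp
  exact this

end gl

end Cfsg.Agent.Lib.Helper5.OParab
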