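import Mathlib
import Cfsg.Agent.Lib.Helper5.OParab.UnipCube
import Cfsg.Agent.Lib.Helper5.QuadSign.StdMinus

set_option autoImplicit false

namespace Cfsg.Agent.Lib.Helper5.OParab

open QuadraticMap Module Cfsg
open Cfsg.Agent.Lib.Helper5.QuadSign

universe u

section conc
variable {F : Type u} [Field F] (k : ℕ) (a b : F)

/-- the sign of `i` against its reverse -/
def sgnRev (i : Fin k) : F :=
  if (i : ℕ) < (Fin.rev i : ℕ) then 1 else if (Fin.rev i : ℕ) < (i : ℕ) then -1 else 0

theorem sgnRev_rev (i : Fin k) : sgnRev (F := F) k (Fin.rev i) = -sgnRev k i := by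
  unfold sgnRev
  rw [Fin.rev_rev]
  by_cases h1 : (i : ℕ) < (Fin.rev i : ℕ)
  · have h2 : ¬ (Fin.rev i : ℕ) < (i : ℕ) := by omega
    rw [if_pos h1, if_neg h2, if_pos h1]
  · by_cases h2 : (Fin.rev i : ℕ) < (i : ℕ)
    · rw [if_pos h2, if_neg h1, if_pos h2, neg_neg]
    · rw [if_neg h2, if_neg h1, if_neg h1, if_neg h2, neg_zero]

theorem sgnRev_eq_zero_iff (i : Fin k) : sgnRev (F := F) k i = 0 ↔ 2 * (i : ℕ) + 1 = k := by
  unfold sgnRev
  rw [Fin.val_rev]
  have hi := i.2
  by_cases h1 : (i : ℕ) < k - ((i : ℕ) + 1)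
  · rw [if_pos h1]
    constructor
    · intro h
      exact absurd h one_ne_zero
    · intro h
      omega
  · by_cases h2 : k - ((i : ℕ) + 1) < (i : ℕ)
    · rw [if_neg h1, if_pos h2]
      constructor
      · intro h
        exact absurd (neg_eq_zero.1 h) one_ne_zero
      · intro h
        omega
    · rw [if_neg h1, if_neg h2]
      constructor
      · intro _
        omega
      · intro _
        rfl

/-- the vector with coordinates `g` on the first `k` basis vectors -/
def embL (g : Fin k → F) : (Fin k ⊕ Fin k) ⊕ Fin 2 → F := Sum.elim (Sum.elim g 0) 0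

/-- the vector with coordinates `g` on the second `k` basis vectors -/
def embR (g : Fin k → F) : (Fin k ⊕ Fin k) ⊕ Fin 2 → F := Sum.elim (Sum.elim 0 g) 0

/-- the vector with coordinates `z` on the last two basis vectors -/
def embP (z : Fin 2 → F) : (Fin k ⊕ Fin k) ⊕ Fin 2 → F := Sum.elim 0 z

theorem polar_std (x y : (Fin k ⊕ Fin k) ⊕ Fin 2 → F) :
    polar (qMinus k a b) x y =
      ∑ i : Fin k, (x (.inl (.inl i)) * y (.inl (.inr i)) + y (.inl (.inl i)) * x (.inl (.inr i))) +
        polar (qBin a b) (x ∘ Sum.inr) (y ∘ Sum.inr) := by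
  rw [polar_qMinus, polar_qPlus]
  rfl

theorem q_std (x : (Fin k ⊕ Fin k) ⊕ Fin 2 → F) :
    qMinus k a b x = ∑ i : Fin k, x (.inl (.inl i)) * x (.inl (.inr i)) +
      qBin a b (x ∘ Sum.inr) := by
  rw [qMinus_apply, qPlus_apply]
  rfl

/-- the nilpotent map `f_j ↦ ± e_{rev j}` -/
def revMap : ((Fin k ⊕ Fin k) ⊕ Fin 2 → F) →ₗ[F] ((Fin k ⊕ Fin k) ⊕ Fin 2 → F) where
  toFun v := embL k (fun i => sgnRev k i * v (.inl (.inr (Fin.rev i))))
  map_add' u v := by
    ext ((i | i) | i) <;> simp [embL, mul_add]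
  map_smul' c v := by
    ext ((i | i) | i) <;> simp [embL, mul_left_comm]

theorem revMap_apply (v : (Fin k ⊕ Fin k) ⊕ Fin 2 → F) :
    revMap k v = embL k (fun i => sgnRev k i * v (.inl (.inr (Fin.rev i)))) := rfl

end conc

section lem
variable {F : Type u} [Field F] {k : ℕ} {a b : F}

theorem embL_inl_inl (g : Fin k → F) (i : Fin k) : embL k g (.inl (.inl i)) = g i := rfl
theorem embL_inl_inr (g : Fin k → F) (i : Fin k) : embL k g (.inl (.inr i)) = 0 := rfl
theorem embL_comp_inr (g : Fin k → F) : embL k g ∘ Sum.inr = 0 := rfl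
theorem embR_inl_inl (g : Fin k → F) (i : Fin k) : embR k g (.inl (.inl i)) = 0 := rfl
theorem embR_inl_inr (g : Fin k → F) (i : Fin k) : embR k g (.inl (.inr i)) = g i := rfl
theorem embR_comp_inr (g : Fin k → F) : embR k g ∘ Sum.inr = 0 := rfl
theorem embP_inl (z : Fin 2 → F) (i : Fin k ⊕ Fin k) : embP k z (.inl i) = 0 := rfl
theorem embP_comp_inr (z : Fin 2 → F) : embP k z ∘ Sum.inr = z := rfl

theorem embL_zero : embL k (fun _ => (0 : F)) = 0 := by
  ext ((i | i) | i) <;> rfl

theorem polar_embL (g : Fin k → F) (c : (Fin k ⊕ Fin k) ⊕ Fin 2 → F) :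
    polar (qMinus k a b) (embL k g) c = ∑ i : Fin k, g i * c (.inl (.inr i)) := by
  rw [polar_std]
  simp only [embL_inl_inl, embL_inl_inr, embL_comp_inr, mul_zero, add_zero]
  rw [polar_zero_left, add_zero]

theorem polar_embR (g : Fin k → F) (c : (Fin k ⊕ Fin k) ⊕ Fin 2 → F) :
    polar (qMinus k a b) (embR k g) c = ∑ i : Fin k, g i * c (.inl (.inl i)) := by
  rw [polar_std]
  simp only [embR_inl_inl, embR_inl_inr, embR_comp_inr, zero_mul, zero_add]
  rw [polar_zero_left, add_zero]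
  exact Finset.sum_congr rfl (fun i _ => mul_comm _ _)

theorem polar_embP (z : Fin 2 → F) (c : (Fin k ⊕ Fin k) ⊕ Fin 2 → F) :
    polar (qMinus k a b) (embP k z) c = polar (qBin a b) z (c ∘ Sum.inr) := by
  rw [polar_std]
  simp only [embP_inl, embP_comp_inr, mul_zero, zero_mul, add_zero, Finset.sum_const_zero,
    zero_add]

theorem q_embL (g : Fin k → F) : qMinus k a b (embL k g) = 0 := by
  rw [q_std]
  simp only [embL_inl_inr, embL_comp_inr, mul_zero, Finset.sum_const_zero, zero_add]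
  exact QuadraticMap.map_zero _

theorem q_embP (z : Fin 2 → F) : qMinus k a b (embP k z) = qBin a b z := by
  rw [q_std]
  simp only [embP_inl, embP_comp_inr, mul_zero, Finset.sum_const_zero, zero_add]

theorem revMap_embL (g : Fin k → F) : revMap k (embL k g) = 0 := by
  rw [revMap_apply]
  simp only [embL_inl_inr, mul_zero]
  exact embL_zero

theorem revMap_embP (z : Fin 2 → F) : revMap k (embP k z) = 0 := by
  rw [revMap_apply]
  simp only [embP_inl, mul_zero]
  exact embL_zero

theorem revMap_revMap (c : (Fin k ⊕ Fin k) ⊕ Fin 2 → F) : revMap k (revMap k c) = 0 := by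
  rw [revMap_apply k c, revMap_embL]

/-- `1 + M` is an isometry -/
theorem q_add_revMap (h2 : (2 : F) ≠ 0) (v : (Fin k ⊕ Fin k) ⊕ Fin 2 → F) :
    qMinus k a b (v + revMap k v) = qMinus k a b v := by
  have hS : ∑ i : Fin k, sgnRev (F := F) k i * v (.inl (.inr (Fin.rev i))) * v (.inl (.inr i)) =
      0 := by
    have h1 : ∑ i : Fin k, sgnRev (F := F) k i * v (.inl (.inr (Fin.rev i))) * v (.inl (.inr i)) =
        ∑ i : Fin k, sgnRev (F := F) k (Fin.rev i) * v (.inl (.inr (Fin.rev (Fin.rev i)))) *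
          v (.inl (.inr (Fin.rev i))) :=
      (Equiv.sum_comp Fin.revPerm (fun i => sgnRev (F := F) k i * v (.inl (.inr (Fin.rev i))) *
        v (.inl (.inr i)))).symm
    have h3 : ∑ i : Fin k, sgnRev (F := F) k (Fin.rev i) * v (.inl (.inr (Fin.rev (Fin.rev i)))) *
          v (.inl (.inr (Fin.rev i))) =
        -∑ i : Fin k, sgnRev (F := F) k i * v (.inl (.inr (Fin.rev i))) * v (.inl (.inr i)) := by
      rw [← Finset.sum_neg_distrib]
      apply Finset.sum_congr rfl
      intro i _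
      rw [sgnRev_rev, Fin.rev_rev]
      ring
    rw [h3] at h1
    have h4 : (2 : F) * ∑ i : Fin k, sgnRev (F := F) k i * v (.inl (.inr (Fin.rev i))) *
        v (.inl (.inr i)) = 0 := by
      linear_combination h1
    exact (mul_eq_zero.1 h4).resolve_left h2
  rw [q_std, q_std]
  have hr : (v + revMap k v) ∘ (Sum.inr : Fin 2 → (Fin k ⊕ Fin k) ⊕ Fin 2) = v ∘ Sum.inr := by
    funext j
    simp only [Function.comp_apply, Pi.add_apply, revMap_apply]
    show v (Sum.inr j) + 0 = v (Sum.inr j)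
    rw [add_zero]
  rw [hr]
  congr 1
  simp only [Pi.add_apply, revMap_apply, embL_inl_inl, embL_inl_inr, add_zero]
  rw [← add_zero (∑ i : Fin k, v (.inl (.inl i)) * v (.inl (.inr i))), ← hS,
    ← Finset.sum_add_distrib]
  exact Finset.sum_congr rfl (fun i _ => by ring)

end lem

section bin
variable {F : Type u} [Field F] {a b : F}

/-- the orthogonal complement of `(s, u)` in the binary form -/
theorem qBin_perp (s u : F) :
    qBin a b ![a * s + 2 * b * u, -(2 * s + a * u)] = (4 * b - a ^ 2) * qBin a b ![s, u] := by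
  rw [qBin_apply, qBin_apply]
  simp only [Matrix.cons_val_zero, Matrix.cons_val_one]
  ring

theorem four_sub_ne_zero (h2 : (2 : F) ≠ 0)
    (hab : ∀ x y : F, x ^ 2 + a * x * y + b * y ^ 2 = 0 → x = 0 ∧ y = 0) :
    4 * b - a ^ 2 ≠ 0 := by
  intro h
  have := (hab a (-2) (by linear_combination h)).2
  exact h2 (neg_eq_zero.1 this)

theorem bin_identity (s u : F) (z : Fin 2 → F)
    (hne : qBin a b ![a * s + 2 * b * u, -(2 * s + a * u)] ≠ 0)
    (h : polar (qBin a b) ![a * s + 2 * b * u, -(2 * s + a * u)] z = 0) :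
    4 * qBin a b ![s, u] * qBin a b z = (polar (qBin a b) ![s, u] z) ^ 2 := by
  apply mul_left_cancel₀ hne
  rw [polar_qBin] at h ⊢
  rw [qBin_apply, qBin_apply, qBin_apply]
  simp only [Matrix.cons_val_zero, Matrix.cons_val_one] at h ⊢
  linear_combination ((s ^ 2 + a * s * u + b * u ^ 2) *
    (2 * (a * s + 2 * b * u) * z 0 + a * ((a * s + 2 * b * u) * z 1 + -(2 * s + a * u) * z 0) +
      2 * b * -(2 * s + a * u) * z 1)) * h

/-- an anisotropic binary form represents every nonzero scalar -/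
theorem exists_qBin_eq [Fintype F] (hodd : Fintype.card F % 2 = 1) (h2 : (2 : F) ≠ 0)
    (hab : ∀ x y : F, x ^ 2 + a * x * y + b * y ^ 2 = 0 → x = 0 ∧ y = 0) (α : F) (hα : α ≠ 0) :
    ∃ s u : F, qBin a b ![s, u] = α := by
  have hD := four_sub_ne_zero h2 hab
  have h4 : (4 : F) ≠ 0 := by
    have : (4 : F) = 2 * 2 := by norm_num
    rw [this]
    exact mul_ne_zero h2 h2
  have h4α : 4 * α ≠ 0 := mul_ne_zero h4 hα
  obtain ⟨X, Y, hXY⟩ := Cfsg.Agent.Lib.Helper5.OrthPrime.exists_repr_one hodd (4 * α)⁻¹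
    ((4 * b - a ^ 2) * (4 * α)⁻¹) (inv_ne_zero h4α) (mul_ne_zero hD (inv_ne_zero h4α))
  refine ⟨(X - a * Y) / 2, Y, ?_⟩
  rw [qBin_apply]
  simp only [Matrix.cons_val_zero, Matrix.cons_val_one]
  have h1 : X ^ 2 + (4 * b - a ^ 2) * Y ^ 2 = 4 * α := by
    field_simp at hXY
    linear_combination hXY
  apply mul_left_cancel₀ h4
  rw [← h1]
  field_simp
  ring

end bin

section cubeminus
variable {F : Type u} [Field F] {a b : F}

theorem sum_single_mul {k : ℕ} (i₀ : Fin k) (g : Fin k → F) :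
    ∑ i : Fin k, (Pi.single i₀ (1 : F) : Fin k → F) i * g i = g i₀ := by
  rw [Finset.sum_eq_single i₀]
  · rw [Pi.single_eq_same, one_mul]
  · intro j _ hj
    rw [Pi.single_eq_of_ne hj, zero_mul]
  · intro h
    exact absurd (Finset.mem_univ _) h

/-- **the unipotent isometry of type `(3, 2, …, 2, 1)` on the standard minus-type space** -/
theorem exists_cube_minus (h2 : (2 : F) ≠ 0) (t : ℕ)
    (hab : ∀ x y : F, x ^ 2 + a * x * y + b * y ^ 2 = 0 → x = 0 ∧ y = 0) (s u : F)
    (hα : qBin a b ![s, u] ≠ 0) :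
    ∃ (x : ((Fin (2 * t + 1) ⊕ Fin (2 * t + 1)) ⊕ Fin 2 → F) →ₗ[F]
        ((Fin (2 * t + 1) ⊕ Fin (2 * t + 1)) ⊕ Fin 2 → F))
      (e₀ w₁ : (Fin (2 * t + 1) ⊕ Fin (2 * t + 1)) ⊕ Fin 2 → F),
      (∀ v, qMinus (2 * t + 1) a b (x v) = qMinus (2 * t + 1) a b v) ∧
      (∀ v, ∃ c : F, x (x v - v) - (x v - v) = c • e₀) ∧
      (∀ c, x c = c → 4 * qBin a b ![s, u] * qMinus (2 * t + 1) a b c =
        (polar (qMinus (2 * t + 1) a b) w₁ c) ^ 2) ∧ (x - 1) ^ 3 = 0 ∧ x ≠ 1 := by
  obtain ⟨k, hk⟩ : ∃ k : ℕ, k = 2 * t + 1 := ⟨_, rfl⟩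
  rw [← hk]
  obtain ⟨i₀, hi₀⟩ : ∃ i₀ : Fin k, (i₀ : ℕ) = t := ⟨⟨t, by omega⟩, rfl⟩
  have hs0 : sgnRev (F := F) k i₀ = 0 := by
    rw [sgnRev_eq_zero_iff]
    omega
  have hne : qBin a b ![a * s + 2 * b * u, -(2 * s + a * u)] ≠ 0 := by
    rw [qBin_perp]
    exact mul_ne_zero (four_sub_ne_zero h2 hab) hα
  obtain ⟨x, h1, h2', h3, h4, h5⟩ := cube_data h2 (qMinus k a b) (embL k (Pi.single i₀ 1))
    (embP k ![a * s + 2 * b * u, -(2 * s + a * u)]) (embP k ![s, u]) (embR k (Pi.single i₀ 1))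
    (revMap k) (q_embL _)
    (by
      rw [polar_embL]
      simp only [embP_inl, mul_zero, Finset.sum_const_zero])
    (by rw [q_embP]; exact hne)
    (q_add_revMap h2) (revMap_embL _) (revMap_embP _) revMap_revMap
    (fun c => by
      rw [polar_embL, revMap_apply]
      simp only [embL_inl_inr, mul_zero, Finset.sum_const_zero])
    (fun c => by
      rw [polar_embP, revMap_apply, embL_comp_inr, polar_zero_right])
    (by
      rw [polar_embL]
      simp only [embR_inl_inr]
      rw [sum_single_mul, Pi.single_eq_same])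
    (fun c => by
      rw [polar_embR, revMap_apply]
      simp only [embL_inl_inl]
      rw [sum_single_mul, hs0, zero_mul])
    (qBin a b ![s, u])
    (fun c hM he hw => by
      have hMi : ∀ i, sgnRev (F := F) k i * c (.inl (.inr (Fin.rev i))) = 0 := by
        intro i
        have := congrFun hM (.inl (.inl i))
        rwa [revMap_apply, embL_inl_inl] at this
      rw [polar_embL, sum_single_mul] at he
      have hY : ∀ j, c (.inl (.inr j)) = 0 := by
        intro j
        by_cases hj : j = i₀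
        · rw [hj]
          exact he
        · have h := hMi (Fin.rev j)
          rw [Fin.rev_rev] at h
          refine (mul_eq_zero.1 h).resolve_left ?_
          intro h'
          rw [sgnRev_eq_zero_iff, Fin.val_rev] at h'
          apply hj
          apply Fin.ext
          have := j.2
          omega
      rw [polar_embP] at hw ⊢
      have hq : qMinus k a b c = qBin a b (c ∘ Sum.inr) := by
        rw [q_std]
        simp only [hY, mul_zero, Finset.sum_const_zero, zero_add]
      rw [hq]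
      exact bin_identity s u _ hne hw)
  exact ⟨x, _, _, h1, h2', h3, h4, h5⟩

end cubeminus

end Cfsg.Agent.Lib.Helper5.OParab
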