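import Mathlib
import Cfsg.Agent.Lib.Helper5.OParab.Two
import Cfsg.Agent.Lib.Helper5.OElus.Suff

set_option autoImplicit false

/-!
# Isometries of odd prime order fixing a subspace isometric to a given one of odd dimension
-/

namespace Cfsg.Agent.Lib.Helper5.OParab

open QuadraticMap Module Cfsg
open Cfsg.Agent.Lib.Helper5.QuadTwo Cfsg.Agent.Lib.Helper5.QuadSign
open Cfsg.Agent.Lib.Helper5.OrthPrime Cfsg.Agent.Lib.Helper5.OElus

universe u

section suff
variable {F : Type u} [Field F] [Fintype F] {V : Type u} [AddCommGroup V] [Module F V]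
  [FiniteDimensional F V]

/-- **isometries of odd prime order `r ≠ p`**: existence of an invariant subspace isometric to a
given nondegenerate subspace `W₀` of odd dimension -/
theorem exists_iso_of_odd_order (hq : Odd (Fintype.card F)) {p f₀ : ℕ} [hp : Fact p.Prime]
    [CharP F p] (hqp : Fintype.card F = p ^ f₀) (Q : QuadraticForm F V) (hQ : Nd Q)
    (g gi : V →ₗ[F] V) (hiso : ∀ x, Q (g x) = Q x) (gi_g : ∀ x, gi (g x) = x)
    (g_gi : ∀ x, g (gi x) = x) (r : ℕ) [hr : Fact r.Prime] (hr2 : r ≠ 2) (hrp : r ≠ p)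
    (hgr : g ^ r = 1) (i c : ℕ) (hi : i = orderOf ((Fintype.card F : ℕ) : ZMod r))
    (hc : c = if Even i then i else 2 * i) (W₀ : Submodule F V) (hW₀ : NdOn Q W₀)
    (hmodd : Odd (finrank F W₀)) (hmn : finrank F W₀ < finrank F V)
    (hcond : finrank F W₀ % c < finrank F V % c ∨
      (finrank F V % c = 0 ∧ LinearMap.ker (g - 1) ≠ ⊥)) :
    ∃ W : Submodule F V, finrank F W = finrank F W₀ ∧ NdOn Q W ∧ IsoOn Q W W₀ ∧
      ∀ x ∈ W, g x ∈ W := by
  have h2 : (2 : F) ≠ 0 := Cfsg.Agent.Lib.Helper5.two_ne_zero_of_odd_card hq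
  have rodd : Odd r := hr.out.odd_of_ne_two hr2
  have r0 : (r : F) ≠ 0 := by
    intro h
    have h1 := (CharP.cast_eq_zero_iff F p r).mp h
    exact hrp ((Nat.prime_dvd_prime_iff_eq hp.out hr.out).mp h1).symm
  have hrq : ¬ r ∣ Fintype.card F := by
    rw [hqp]
    intro h
    exact hrp ((Nat.prime_dvd_prime_iff_eq hr.out hp.out).mp (hr.out.dvd_of_dvd_pow h))
  have hi0 : 0 < i := hi ▸ order_pos' r hrq
  have hc0 : 0 < c := by
    rw [hc]
    split_ifs <;> omega
  obtain ⟨c', hc'⟩ : ∃ c', c = 2 * c' := by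
    rw [hc]
    split_ifs with h
    · obtain ⟨a, ha⟩ := h
      exact ⟨a, by omega⟩
    · exact ⟨i, rfl⟩
  obtain ⟨m, hm⟩ : ∃ m, m = finrank F W₀ := ⟨_, rfl⟩
  rw [← hm] at hmodd hmn hcond
  obtain ⟨D, hD⟩ : ∃ D : OData F V, D = mkOData Q hQ g gi hiso gi_g g_gi r hgr rodd r0 h2 :=
    ⟨_, rfl⟩
  have hDB : ∀ x y, D.B x y = polar Q x y := fun x y => by rw [hD]; rfl
  have hDg : D.g = g := by rw [hD]; rfl
  have hDgi : D.gi = gi := by rw [hD]; rfl
  have hDr : D.r = r := by rw [hD]; rfl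
  have hDV1 : D.V1 = LinearMap.ker (g - 1) := by rw [hD]; rfl
  have hcompl := D.isCompl
  have hBnd : Nondeg (polarBilin Q) := fun v hv => hQ v (fun w => by
    have := hv w
    rwa [polarBilin_apply_apply] at this)
  have hisoB : ∀ x y, polarBilin Q (g x) (g y) = polarBilin Q x y := by
    intro x y
    rw [polarBilin_apply_apply, polarBilin_apply_apply]
    unfold polar
    rw [← map_add, hiso, hiso, hiso]
  have horth : ∀ u ∈ D.V1, ∀ w ∈ D.W, polar Q u w = 0 := fun u hu w hw => by
    rw [← hDB]; exact D.orth u hu w hw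
  have hCnd : NdOn Q D.V1 := (nondeg_res_iff Q D.V1).1
    (nondeg_of_isCompl (symm_polarBilin Q) hBnd hcompl (fun u hu w hw => by
      rw [polarBilin_apply_apply]; exact horth u hu w hw))
  have hMnd : NdOn Q D.W := (nondeg_res_iff Q D.W).1
    (nondeg_of_isCompl (symm_polarBilin Q) hBnd hcompl.symm (fun u hu w hw => by
      rw [polarBilin_apply_apply, polar_comm]; exact horth w hw u hu))
  have hdim := Submodule.finrank_add_eq_of_isCompl hcompl
  have hMfix : ∀ v ∈ D.W, g v = v → v = 0 := by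
    intro v hv hgv
    have h1 : v ∈ D.V1 ⊓ D.W := Submodule.mem_inf.2 ⟨(D.mem_V1 v).2 (by rw [hDg]; exact hgv), hv⟩
    rw [D.disjoint.eq_bot, Submodule.mem_bot] at h1
    exact h1
  have hMinf : (D.W ⊓ LinearMap.ker (g - 1) : Submodule F V) = ⊥ := by
    rw [eq_bot_iff]
    intro x hx
    rw [Submodule.mem_inf, LinearMap.mem_ker, LinearMap.sub_apply, Module.End.one_apply,
      sub_eq_zero] at hx
    rw [Submodule.mem_bot]
    exact hMfix x hx.1 hx.2
  have hcdvd : c ∣ finrank F D.W := by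
    have h1 := dvd_finrank_sub_fix (polarBilin Q) (symm_polarBilin Q) g gi hisoB g_gi r hr2 hrq
      hgr i c hi hc D.W
      (fun x hx => by rw [← hDg]; exact D.g_mem_W x hx)
      (fun x hx => by rw [← hDgi]; exact D.gi_mem_W x hx)
      (fun w hw hwu => hMnd w hw (fun u hu => by
        have := hwu u hu
        rwa [polarBilin_apply_apply, polar_comm] at this))
    rwa [hMinf, finrank_bot, Nat.sub_zero] at h1
  obtain ⟨t', ht'⟩ := hcdvd
  have hC1 : ∀ x ∈ D.V1, g x = (1 : F) • x := fun x hx => by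
    rw [one_smul, ← hDg]; exact (D.mem_V1 x).1 hx
  have : Fact D.r.Prime := hDr ▸ hr
  obtain ⟨U, hUM, hUd, hUg, hUgi, hUnd⟩ := exists_inv_nd_sub D hqp (hDr ▸ hr2) (hDr ▸ hrp)
    (hDr ▸ hrq) i c (hDr ▸ hi) hc (min t' (m / c)) (by
      rw [ht']
      exact Nat.mul_le_mul_left c (min_le_left _ _))
  rw [hDg] at hUg
  have hUnd' : NdOn Q U := fun v hv hvw => hUnd v hv (fun w hw => by rw [hDB]; exact hvw w hw)
  have hdm := Nat.div_add_mod m c
  have hle : c * min t' (m / c) ≤ m :=
    (Nat.mul_le_mul_left c (min_le_right _ _)).trans (Nat.mul_div_le _ _)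
  obtain ⟨z, hz⟩ : ∃ z, z = c' * min t' (m / c) := ⟨_, rfl⟩
  have hcz : c * min t' (m / c) = 2 * z := by rw [hz, ← mul_assoc, ← hc']
  have hpos : 0 < m - c * min t' (m / c) := by
    rw [Nat.odd_iff] at hmodd
    omega
  have hCmod : finrank F D.V1 % c = finrank F V % c := by
    rw [← hdim, ht', Nat.add_mul_mod_self_left]
  have hlt : m - c * min t' (m / c) < finrank F D.V1 := by
    rcases le_total t' (m / c) with hle' | hle'
    · rw [min_eq_left hle']
      rw [min_eq_left hle'] at hle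
      omega
    · rw [min_eq_right hle']
      have h3 : m - c * (m / c) = m % c := by omega
      rw [h3]
      rcases hcond with hA | ⟨hB1, hB2⟩
      · have h4 : finrank F V % c ≤ finrank F D.V1 := by
          rw [← hCmod]
          exact Nat.mod_le _ _
        omega
      · have h5 : 0 < finrank F D.V1 := by
          rw [Nat.pos_iff_ne_zero]
          intro h
          apply hB2
          rw [← hDV1]
          exact Submodule.finrank_eq_zero.1 h
        have h6 : c ∣ finrank F D.V1 := Nat.dvd_of_mod_eq_zero (by rw [hCmod, hB1])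
        have h7 := Nat.le_of_dvd h5 h6
        have h8 := Nat.mod_lt m hc0
        omega
  exact exists_iso_inv hq Q g D.V1 U 1 hC1 hUg (fun c' hc' u hu => horth c' hc' u (hUM hu))
    hCnd hUnd' (m - c * min t' (m / c)) hpos hlt W₀ hW₀ (by rw [hUd, ← hm]; omega)

end suff

end Cfsg.Agent.Lib.Helper5.OParab
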