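import Mathlib
import Cfsg.Agent.Lib.Helper5.OParab.Suff
import Cfsg.Agent.Lib.Helper5.OElus.Main
import Cfsg.Agent.Lib.Helper5.QuadSign.RealEven
import Cfsg.Agent.Lib.Helper5.QuadSign.RealOdd
import Cfsg.Agent.Lib.Helper5.QuadSign.Main

set_option autoImplicit false

/-!
# Elements of odd prime order of `Ω^±_{2d}(q)` with the smallest possible fixed space
-/

namespace Cfsg.Agent.Lib.Helper5.OParab

open QuadraticMap Module Polynomial Cfsg
open Cfsg.Agent.Lib.Helper5.QuadTwo Cfsg.Agent.Lib.Helper5.QuadSign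
open Cfsg.Agent.Lib.Helper5.SemiCount Cfsg.Agent.Lib.Helper5.OrthPrime
open Cfsg.Agent.Lib.Helper4.PrimeOrd Cfsg.Agent.Lib.Helper5.NsPt Cfsg.Agent.Lib.Helper5.OElus

universe u

section max
variable {F : Type u} [Field F] [Fintype F] {r i t : ℕ} {f : Fin t → F[X]}
variable {ι : Type} [Fintype ι] [DecidableEq ι]

/-- the dimension of the fixed space from the characteristic polynomial -/
theorem finrank_fix_of_charpoly (two : (2 : F) ≠ 0) (Q : QuadraticForm F (ι → F)) (hQ : Nd Q)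
    (rodd : Odd r) (r0 : (r : F) ≠ 0) (H : FamHyp r i t f) (n : ℕ) (cv : Fin t → ℕ)
    (g : ↥(Cfsg.isometryGroup F ⇑Q)) (hg : g ^ r = 1)
    (hcp : ((g : GL ι F) : Matrix ι ι F).charpoly = Pc n i t f cv) :
    finrank F (LinearMap.ker (Matrix.toLin' ((g : GL ι F) : Matrix ι ι F) - 1)) =
      n - i * ∑ j, cv j := by
  obtain ⟨gl, gi, hgdef, hiso, gi_g, g_gi, hpow⟩ := exists_lin_data Q (g : GL ι F) g.2
  have hgr : gl ^ r = 1 := hpow r (by rw [← Subgroup.coe_pow, hg, Subgroup.coe_one])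
  obtain ⟨D, hD⟩ : ∃ D : OData F (ι → F),
      D = mkOData Q hQ gl gi hiso gi_g g_gi r hgr rodd r0 two := ⟨_, rfl⟩
  have hDg : D.g = gl := by rw [hD]; rfl
  have hDV1 : D.V1 = LinearMap.ker (gl - 1) := by rw [hD]; rfl
  have h1 := D.finrank_V1_eq
  rw [hDg, hDV1, hgdef, Matrix.charpoly_toLin', hcp, rootMultiplicity_Pc H] at h1
  exact h1

/-- the multiplicity vector of an element with the largest possible moving space -/
theorem exists_cv (i c t : ℕ) (hc : c = if Even i then i else 2 * i) (ht1 : 1 ≤ t)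
    (π : Fin t → Fin t) (hπi : Function.Involutive π) (hπe : Even i → π = id) (s : ℕ) :
    ∃ cv : Fin t → ℕ, i * ∑ j, cv j = c * s ∧ ∀ j, cv (π j) = cv j := by
  obtain ⟨j₀, -⟩ : ∃ j₀ : Fin t, j₀ = ⟨0, ht1⟩ := ⟨_, rfl⟩
  obtain ⟨cv, hcv⟩ : ∃ cv : Fin t → ℕ, cv = fun j => (if j = j₀ then s else 0) +
      (if Even i then 0 else if j = π j₀ then s else 0) := ⟨_, rfl⟩
  refine ⟨cv, ?_, ?_⟩
  · rw [hcv, Finset.sum_add_distrib, Finset.sum_ite_eq' Finset.univ j₀, if_pos (Finset.mem_univ _)]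
    by_cases hev : Even i
    · simp only [if_pos hev, Finset.sum_const_zero, add_zero]
      rw [hc, if_pos hev]
    · simp only [if_neg hev]
      rw [Finset.sum_ite_eq' Finset.univ (π j₀), if_pos (Finset.mem_univ _), hc, if_neg hev]
      ring
  · intro j
    by_cases hev : Even i
    · rw [hπe hev]
      rfl
    · rw [hcv]
      simp only [if_neg hev]
      have h1 : (π j = j₀) ↔ (j = π j₀) := by
        constructor
        · intro h
          rw [← h, hπi j]
        · intro h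
          rw [h, hπi j₀]
      have h2 : (π j = π j₀) ↔ (j = j₀) := hπi.injective.eq_iff
      simp only [h1, h2]
      rw [add_comm]

variable (p : ℕ) [Fact p.Prime] [CharP F p]

include p in
/-- a maximal element from a realisation of the characteristic polynomial -/
theorem max_of_real {q : ℕ} (hF : Fintype.card F = q) (hodd : Fintype.card F % 2 = 1)
    (Q : QuadraticForm F (ι → F)) (hQ : Nd Q) (d : ℕ) (hcard : Fintype.card ι = 2 * d)
    (r : ℕ) [hr : Fact r.Prime] (hr2 : r ≠ 2) (hrp : r ≠ p) (i c : ℕ)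
    (hi : i = orderOf (q : ZMod r)) (hc : c = if Even i then i else 2 * i) (hcn : c ≤ 2 * d)
    (hreal : ∀ (t : ℕ) (f : Fin t → F[X]), FamHyp r i t f → ∀ π : Fin t → Fin t,
      Function.Involutive π → (∀ j, Cfsg.Agent.Lib.Helper5.SemiCount.star (RingHom.id F) (f j) =
        f (π j)) → (Even i → π = id) → (¬ Even i → ∀ j, π j ≠ j) →
      ∀ cv : Fin t → ℕ, i * ∑ j, cv j = c * (2 * d / c) → (∀ j, cv (π j) = cv j) →
        ∃ g : ↥(Cfsg.isometryGroup F ⇑Q), g ^ r = 1 ∧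
          ((g : GL ι F) : Matrix ι ι F).charpoly = Pc (2 * d) i t f cv) :
    ∃ g : ↥(Cfsg.isometryGroup F ⇑Q), g ^ r = 1 ∧ g ≠ 1 ∧ g ∈ Cfsg.Omega F ⇑Q ∧
      finrank F (LinearMap.ker (Matrix.toLin' ((g : GL ι F) : Matrix ι ι F) - 1)) =
        (2 * d) % c := by
  classical
  have rodd : Odd r := hr.out.odd_of_ne_two hr2
  have two : (2 : F) ≠ 0 := Cfsg.Agent.Lib.Helper5.OrthPrime.two_ne_zero_of_odd_card hodd
  obtain ⟨hqr, t, ht⟩ := exists_order_setup p hF r hr.out hrp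
  rw [← hi] at ht
  obtain ⟨r0, hi', ht1, f, H, π, hπi, hπ, hπe, hπo⟩ :=
    family_setup p hF r i t hr.out hr2 hrp hi ht
  have hi0 : 0 < i := H.ipos
  have hc0 : 0 < c := by
    rw [hc]
    split_ifs <;> omega
  obtain ⟨cv, hsum, hcπ⟩ := exists_cv i c t hc ht1 π hπi hπe (2 * d / c)
  obtain ⟨g, hg, hcp⟩ := hreal t f H π hπi hπ hπe hπo cv hsum hcπ
  have hfix := finrank_fix_of_charpoly two Q hQ rodd r0 H (2 * d) cv g hg hcp
  have hdm := Nat.div_add_mod (2 * d) c
  have hfix' : finrank F (LinearMap.ker (Matrix.toLin' ((g : GL ι F) : Matrix ι ι F) - 1)) =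
      (2 * d) % c := by
    rw [hfix, hsum]
    omega
  refine ⟨g, hg, ?_, mem_Omega_of_odd_order Q hQ g r rodd r0 hg, hfix'⟩
  rintro rfl
  have h1 : Matrix.toLin' (((1 : ↥(Cfsg.isometryGroup F ⇑Q)) : GL ι F) : Matrix ι ι F) - 1 = 0 := by
    rw [Subgroup.coe_one, Units.val_one, Matrix.toLin'_one]
    exact sub_self _
  rw [h1, LinearMap.ker_zero, finrank_top, Module.finrank_fintype_fun_eq_card, hcard] at hfix'
  have := Nat.mod_lt (2 * d) hc0
  have h3 : 1 ≤ 2 * d / c := (Nat.one_le_div_iff hc0).2 hcn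
  have h4 : c * 1 ≤ c * (2 * d / c) := Nat.mul_le_mul_left c h3
  omega

end max

end Cfsg.Agent.Lib.Helper5.OParab
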