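import Mathlib
import Cfsg.Agent.Lib.Helper5.OParab.Max

set_option autoImplicit false

/-!
# Maximal elements of odd prime order in `Ω^+_{2d}(q)` and `Ω^-_{2d}(q)`
-/

namespace Cfsg.Agent.Lib.Helper5.OParab

open QuadraticMap Module Polynomial Cfsg
open Cfsg.Agent.Lib.Helper5.QuadTwo Cfsg.Agent.Lib.Helper5.QuadSign
open Cfsg.Agent.Lib.Helper5.SemiCount Cfsg.Agent.Lib.Helper5.OrthPrime
open Cfsg.Agent.Lib.Helper4.PrimeOrd Cfsg.Agent.Lib.Helper5.NsPt Cfsg.Agent.Lib.Helper5.OElus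

universe u

section maxpm
variable {F : Type u} [Field F] [Fintype F] (p : ℕ) [Fact p.Prime] [CharP F p]

include p in
/-- **an element of `Ω⁺_{2d}(q)` of odd prime order `r ≠ p` with fixed space of dimension
`2d % c > 0`** -/
theorem exists_max_plus {q : ℕ} (hF : Fintype.card F = q) (hodd : Fintype.card F % 2 = 1)
    (d : ℕ) (r : ℕ) [hr : Fact r.Prime] (hr2 : r ≠ 2) (hrp : r ≠ p) (i c : ℕ)
    (hi : i = orderOf (q : ZMod r)) (hc : c = if Even i then i else 2 * i) (hcn : c ≤ 2 * d)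
    (hk₀ : 0 < (2 * d) % c) :
    ∃ g : ↥(Cfsg.isometryGroup F ⇑(qPlus (F := F) d)), g ^ r = 1 ∧ g ≠ 1 ∧
      g ∈ Cfsg.Omega F ⇑(qPlus (F := F) d) ∧
      finrank F (LinearMap.ker (Matrix.toLin' ((g : GL (Fin d ⊕ Fin d) F) :
        Matrix (Fin d ⊕ Fin d) (Fin d ⊕ Fin d) F) - 1)) = (2 * d) % c := by
  have hcard : Fintype.card (Fin d ⊕ Fin d) = 2 * d := by
    rw [Fintype.card_sum, Fintype.card_fin]
    ring
  have hi' : orderOf ((Fintype.card F : ℕ) : ZMod r) = i := by rw [hF]; exact hi.symm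
  have hdm := Nat.div_add_mod (2 * d) c
  apply max_of_real p hF hodd (qPlus d) (nd_qPlus d) d hcard r hr2 hrp i c hi hc hcn
  intro t f H π hπi hπ hπe hπo cv hsum hcπ
  by_cases hev : Even i
  · have hπ' : ∀ j, Cfsg.Agent.Lib.Helper5.SemiCount.star (RingHom.id F) (f j) = f j := by
      intro j
      rw [hπ j, hπe hev]
      rfl
    exact exists_even_Pc p hr2 H hπ' hi' hev (qPlus d) (nd_qPlus d) d hcard 1 (Or.inl rfl)
      (hasSign_qPlus d) cv (by rw [hsum]; exact Nat.mul_div_le _ _) (fun hfull => by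
        rw [hsum] at hfull
        omega)
  · exact exists_plus_Pc_odd p H π hπi hπ (hπo hev) d cv (by
      rw [hsum]
      exact Nat.mul_div_le _ _) hcπ

include p in
/-- **an element of `Ω⁻_{2d}(q)` of odd prime order `r ≠ p` with fixed space of dimension
`2d % c > 0`** -/
theorem exists_max_minus {q : ℕ} (hF : Fintype.card F = q) (hodd : Fintype.card F % 2 = 1)
    (d' : ℕ) (a b : F)
    (hab : ∀ z₁ z₂ : F, z₁ ^ 2 + a * z₁ * z₂ + b * z₂ ^ 2 = 0 → z₁ = 0 ∧ z₂ = 0)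
    (r : ℕ) [hr : Fact r.Prime] (hr2 : r ≠ 2) (hrp : r ≠ p) (i c : ℕ)
    (hi : i = orderOf (q : ZMod r)) (hc : c = if Even i then i else 2 * i)
    (hcn : c ≤ 2 * (d' + 1)) (hk₀ : 0 < (2 * (d' + 1)) % c) :
    ∃ g : ↥(Cfsg.isometryGroup F ⇑(qMinus (F := F) d' a b)), g ^ r = 1 ∧ g ≠ 1 ∧
      g ∈ Cfsg.Omega F ⇑(qMinus (F := F) d' a b) ∧
      finrank F (LinearMap.ker (Matrix.toLin' ((g : GL ((Fin d' ⊕ Fin d') ⊕ Fin 2) F) :
        Matrix ((Fin d' ⊕ Fin d') ⊕ Fin 2) ((Fin d' ⊕ Fin d') ⊕ Fin 2) F) - 1)) =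
        (2 * (d' + 1)) % c := by
  have hcard : Fintype.card ((Fin d' ⊕ Fin d') ⊕ Fin 2) = 2 * (d' + 1) := by
    rw [Fintype.card_sum, Fintype.card_sum, Fintype.card_fin, Fintype.card_fin]
    ring
  have hi' : orderOf ((Fintype.card F : ℕ) : ZMod r) = i := by rw [hF]; exact hi.symm
  have hdm := Nat.div_add_mod (2 * (d' + 1)) c
  apply max_of_real p hF hodd (qMinus d' a b) (nd_qMinus d' hab) (d' + 1) hcard r hr2 hrp i c hi
    hc hcn
  intro t f H π hπi hπ hπe hπo cv hsum hcπ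
  by_cases hev : Even i
  · have hπ' : ∀ j, Cfsg.Agent.Lib.Helper5.SemiCount.star (RingHom.id F) (f j) = f j := by
      intro j
      rw [hπ j, hπe hev]
      rfl
    exact exists_even_Pc p hr2 H hπ' hi' hev (qMinus d' a b) (nd_qMinus d' hab) (d' + 1) hcard
      (-1) (Or.inr rfl) (hasSign_qMinus d' hab) cv (by rw [hsum]; exact Nat.mul_div_le _ _)
      (fun hfull => by
        rw [hsum] at hfull
        omega)
  · exact exists_minus_Pc_odd p H π hπi hπ (hπo hev) d' a b cv (by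
      rw [hsum]
      exact Nat.mul_div_le _ _) (by rw [hsum]; omega) hcπ

end maxpm

end Cfsg.Agent.Lib.Helper5.OParab
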