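import Mathlib
import Cfsg.Agent.Lib.Helper5.OParab.NegOmega
import Cfsg.Agent.Lib.Helper5.OrthCard

set_option autoImplicit false

/-!
# Existence of isometries squaring to `-1`
-/

namespace Cfsg.Agent.Lib.Helper5.OParab

open QuadraticMap Module Cfsg Matrix
open Cfsg.Agent.Lib.Helper5.QuadTwo Cfsg.Agent.Lib.Helper5.QuadSign
open Cfsg.Agent.Lib.Helper5.OrthPrime Cfsg.Agent.Lib.Helper5.OElus

universe u

section model
variable {F : Type u} [Field F] (d : ℕ)

/-- the sum of squares -/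
noncomputable def sqForm : QuadraticForm F (Fin d ⊕ Fin d → F) :=
  QuadraticMap.weightedSumSquares F (fun _ : Fin d ⊕ Fin d => (1 : F))

theorem sqForm_apply (v : Fin d ⊕ Fin d → F) :
    sqForm (F := F) d v = ∑ i, v i * v i := by
  unfold sqForm
  rw [QuadraticMap.weightedSumSquares_apply]
  simp

/-- the rotation matrix -/
def rotMat : Matrix (Fin d ⊕ Fin d) (Fin d ⊕ Fin d) F := fromBlocks 0 (-1) 1 0

theorem rotMat_mul_self : rotMat (F := F) d * rotMat d = -1 := by
  unfold rotMat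
  rw [fromBlocks_multiply]
  simp only [Matrix.mul_zero, Matrix.mul_one, zero_add, add_zero, Matrix.mul_neg]
  rw [← fromBlocks_one, fromBlocks_neg]
  simp

theorem rotMat_mulVec (v : Fin d ⊕ Fin d → F) :
    rotMat d *ᵥ v = Sum.elim (-(v ∘ Sum.inr)) (v ∘ Sum.inl) := by
  unfold rotMat
  rw [fromBlocks_mulVec, Matrix.zero_mulVec, Matrix.zero_mulVec, Matrix.one_mulVec,
    Matrix.neg_mulVec, Matrix.one_mulVec, zero_add, add_zero]

theorem sqForm_rot (v : Fin d ⊕ Fin d → F) : sqForm d (rotMat d *ᵥ v) = sqForm d v := by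
  rw [sqForm_apply, sqForm_apply, rotMat_mulVec, Fintype.sum_sum_type, Fintype.sum_sum_type]
  simp only [Sum.elim_inl, Sum.elim_inr, Pi.neg_apply, Function.comp_apply, neg_mul_neg]
  rw [add_comm]

theorem polar_sqForm_single (j : Fin d ⊕ Fin d) (v : Fin d ⊕ Fin d → F) :
    polar (sqForm (F := F) d) (Pi.single j 1) v = 2 * v j := by
  unfold polar
  rw [sqForm_apply, sqForm_apply, sqForm_apply, ← Finset.sum_sub_distrib,
    ← Finset.sum_sub_distrib, Finset.sum_eq_single j]
  · simp only [Pi.add_apply, Pi.single_eq_same]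
    ring
  · intro i _ hij
    simp only [Pi.add_apply, Pi.single_eq_of_ne hij]
    ring
  · intro h
    exact absurd (Finset.mem_univ j) h

theorem nd_sqForm (h2 : (2 : F) ≠ 0) : Nd (sqForm (F := F) d) := by
  intro v hv
  funext j
  have := hv (Pi.single j 1)
  rw [polar_sqForm_single] at this
  exact (mul_eq_zero.1 this).resolve_left h2

end model

section ex
variable {F : Type u} [Field F] [Fintype F] {ι : Type} [Fintype ι] [DecidableEq ι]

/-- **existence of an isometry squaring to `-1`** on a space of the right sign -/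
theorem exists_neg_sq (hq : Odd (Fintype.card F)) (Q : QuadraticForm F (ι → F)) (hQ : Nd Q)
    (d : ℕ) (hd1 : 1 ≤ d) (hcard : Fintype.card ι = 2 * d)
    (hs : HasSign Q d (if Even (d * (Fintype.card F - 1) / 2) then 1 else -1)) :
    ∃ g : ↥(Cfsg.isometryGroup F ⇑Q),
      ((g : GL ι F) : Matrix ι ι F) * ((g : GL ι F) : Matrix ι ι F) = -1 := by
  have h2 : (2 : F) ≠ 0 := Cfsg.Agent.Lib.Helper5.two_ne_zero_of_odd_card hq
  have hk : finrank F (ι → F) = 2 * d := by rw [Module.finrank_fintype_fun_eq_card, hcard]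
  have hiso' : ∀ x, sqForm d (Matrix.toLin' (rotMat (F := F) d) x) = sqForm d x := by
    intro x
    rw [Matrix.toLin'_apply]
    exact sqForm_rot d x
  have hgg' : ∀ v, Matrix.toLin' (rotMat (F := F) d) (Matrix.toLin' (rotMat d) v) = -v := by
    intro v
    rw [Matrix.toLin'_apply, Matrix.toLin'_apply, Matrix.mulVec_mulVec, rotMat_mul_self,
      Matrix.neg_mulVec, Matrix.one_mulVec]
  have hs' := hasSign_of_neg_sq hq (sqForm d) (nd_sqForm d h2) _ hiso' hgg' d hd1 (finrank_plus d)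
  obtain ⟨φ, hφ⟩ := (geo_all (F := F)).iso_of_hasSign Q (sqForm d) hQ (nd_sqForm d h2) d hk
    (finrank_plus d) _ hs hs'
  obtain ⟨eJ, heJ⟩ : ∃ eJ : (Fin d ⊕ Fin d → F) ≃ₗ[F] (Fin d ⊕ Fin d → F),
      ∀ v, eJ v = Matrix.toLin' (rotMat (F := F) d) v := by
    refine ⟨LinearEquiv.ofLinearMap (Matrix.toLin' (rotMat d)) (-Matrix.toLin' (rotMat d)) ?_ ?_,
      fun v => rfl⟩
    · apply LinearMap.ext
      intro v
      rw [LinearMap.comp_apply, LinearMap.neg_apply, map_neg, hgg', neg_neg, LinearMap.id_apply]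
    · apply LinearMap.ext
      intro v
      rw [LinearMap.comp_apply, LinearMap.neg_apply, hgg', neg_neg, LinearMap.id_apply]
  obtain ⟨A, hA⟩ := Cfsg.Agent.Lib.Helper5.OrthCard.exists_isom_of_linearEquiv Q
    (φ.trans (eJ.trans φ.symm)) (fun v => by
      rw [LinearEquiv.trans_apply, LinearEquiv.trans_apply, ← hφ, LinearEquiv.apply_symm_apply,
        heJ, hiso', hφ])
  refine ⟨A, ?_⟩
  apply Matrix.toLin'.injective
  apply LinearMap.ext
  intro w
  have hA' : ∀ v, ((A : GL ι F) : Matrix ι ι F) *ᵥ v = (φ.trans (eJ.trans φ.symm)) v := hA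
  rw [Matrix.toLin'_apply, ← Matrix.mulVec_mulVec, hA', hA', Matrix.toLin'_apply,
    Matrix.neg_mulVec, Matrix.one_mulVec]
  simp only [LinearEquiv.trans_apply, LinearEquiv.apply_symm_apply]
  rw [heJ, heJ, hgg', map_neg, LinearEquiv.symm_apply_apply]

end ex

end Cfsg.Agent.Lib.Helper5.OParab
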