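import Mathlib
import Cfsg.Agent.Lib.Helper5.OParab.NegEx

set_option autoImplicit false

/-!
# Elements of `Ω` squaring to `-1`: the criterion
-/

namespace Cfsg.Agent.Lib.Helper5.OParab

open QuadraticMap Module Cfsg Matrix
open Cfsg.Agent.Lib.Helper5.QuadTwo Cfsg.Agent.Lib.Helper5.QuadSign
open Cfsg.Agent.Lib.Helper5.OrthPrime Cfsg.Agent.Lib.Helper5.OElus

universe u

section arith

theorem even_half_iff (d q : ℕ) (hq : Odd q) : Even (d * (q - 1) / 2) ↔ (Even d ∨ q % 4 = 1) := by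
  obtain ⟨k, hk⟩ := hq
  have h1 : d * (q - 1) / 2 = d * k := by
    rw [hk, Nat.add_sub_cancel, show d * (2 * k) = 2 * (d * k) by ring,
      Nat.mul_div_cancel_left _ (by norm_num : 0 < 2)]
  rw [h1, Nat.even_mul]
  constructor
  · rintro (h | ⟨t, ht⟩)
    · exact Or.inl h
    · exact Or.inr (by omega)
  · rintro (h | h)
    · exact Or.inl h
    · exact Or.inr ⟨k / 2, by omega⟩

variable {F : Type u} [Field F]

theorem isSquare_two_pow_iff (h2 : (2 : F) ≠ 0) (d : ℕ) :
    IsSquare ((2 : F) ^ d) ↔ (Even d ∨ IsSquare (2 : F)) := by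
  constructor
  · intro h
    rcases Nat.even_or_odd d with he | ⟨k, hk⟩
    · exact Or.inl he
    · right
      obtain ⟨t, ht⟩ := h
      refine ⟨t / 2 ^ k, ?_⟩
      have h2k : (2 : F) ^ k ≠ 0 := pow_ne_zero _ h2
      have h3 : (2 : F) ^ d = 2 * (2 ^ k) ^ 2 := by
        rw [hk]
        ring
      rw [h3] at ht
      field_simp
      linear_combination ht
  · rintro (⟨k, hk⟩ | h)
    · exact ⟨2 ^ k, by rw [hk, pow_add]⟩
    · exact h.pow d

theorem isSquare_two_iff_mod [Fintype F] (hq : Odd (Fintype.card F)) :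
    IsSquare (2 : F) ↔ (Fintype.card F % 8 = 1 ∨ Fintype.card F % 8 = 7) := by
  rw [FiniteField.isSquare_two_iff]
  rw [Nat.odd_iff] at hq
  omega

/-- the arithmetic condition in the case of a space of plus type -/
theorem plus_two_iff [Fintype F] (hq : Odd (Fintype.card F)) (d : ℕ) :
    ((1 : ℤ) = (if Even (d * (Fintype.card F - 1) / 2) then 1 else -1) ∧
      IsSquare ((2 : F) ^ d)) ↔ ¬ (Odd d ∧ Fintype.card F % 8 ≠ 1) := by
  have h2 : (2 : F) ≠ 0 := Cfsg.Agent.Lib.Helper5.two_ne_zero_of_odd_card hq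
  rw [isSquare_two_pow_iff h2, isSquare_two_iff_mod hq]
  have h1 := even_half_iff d (Fintype.card F) hq
  rw [← Nat.not_even_iff_odd]
  constructor
  · rintro ⟨hσ, hsq⟩ ⟨hdne, hq8⟩
    have hE : Even (d * (Fintype.card F - 1) / 2) := by
      by_contra hE
      rw [if_neg hE] at hσ
      norm_num at hσ
    rcases h1.1 hE with h | h
    · exact hdne h
    · rcases hsq with h' | h'
      · exact hdne h'
      · omega
  · intro hn
    by_cases hd : Even d
    · exact ⟨by rw [if_pos (h1.2 (Or.inl hd))], Or.inl hd⟩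
    · have hq8 : Fintype.card F % 8 = 1 := by
        by_contra h
        exact hn ⟨hd, h⟩
      exact ⟨by rw [if_pos (h1.2 (Or.inr (by omega)))], Or.inr (Or.inl hq8)⟩

/-- the arithmetic condition in the case of a space of minus type -/
theorem minus_two_iff [Fintype F] (hq : Odd (Fintype.card F)) (d : ℕ) :
    ((-1 : ℤ) = (if Even (d * (Fintype.card F - 1) / 2) then 1 else -1) ∧
      IsSquare ((2 : F) ^ d)) ↔ ¬ (Even d ∨ Fintype.card F % 8 ≠ 7) := by
  have h2 : (2 : F) ≠ 0 := Cfsg.Agent.Lib.Helper5.two_ne_zero_of_odd_card hq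
  rw [isSquare_two_pow_iff h2, isSquare_two_iff_mod hq]
  have h1 := even_half_iff d (Fintype.card F) hq
  have hq' := Nat.odd_iff.1 hq
  constructor
  · rintro ⟨hσ, hsq⟩ hA
    have hE : ¬ Even (d * (Fintype.card F - 1) / 2) := by
      intro hE
      rw [if_pos hE] at hσ
      norm_num at hσ
    have h3 : ¬ (Even d ∨ Fintype.card F % 4 = 1) := fun h => hE (h1.2 h)
    push Not at h3
    rcases hA with h | h
    · exact h3.1 h
    · rcases hsq with h' | h'
      · exact h3.1 h'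
      · have := h3.2
        omega
  · intro hn
    push Not at hn
    have hE : ¬ Even (d * (Fintype.card F - 1) / 2) := by
      intro hE
      rcases h1.1 hE with h | h
      · exact hn.1 h
      · omega
    exact ⟨by rw [if_neg hE], Or.inr (Or.inr hn.2)⟩

end arith

section crit
variable {F : Type u} [Field F] [Fintype F] {ι : Type} [Fintype ι] [DecidableEq ι]

/-- **the criterion for the existence of an element of `Ω` squaring to `-1`** -/
theorem exists_neg_sq_iff (hq : Odd (Fintype.card F)) (Q : QuadraticForm F (ι → F)) (hQ : Nd Q)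
    (d : ℕ) (hd1 : 1 ≤ d) (hcard : Fintype.card ι = 2 * d) (ε : ℤ) (hε : HasSign Q d ε) :
    (∃ g : ↥(Cfsg.isometryGroup F ⇑Q), g ∈ Cfsg.Omega F ⇑Q ∧
      ((g : GL ι F) : Matrix ι ι F) * ((g : GL ι F) : Matrix ι ι F) = -1) ↔
    (ε = (if Even (d * (Fintype.card F - 1) / 2) then 1 else -1) ∧ IsSquare ((2 : F) ^ d)) := by
  have h2 : (2 : F) ≠ 0 := Cfsg.Agent.Lib.Helper5.two_ne_zero_of_odd_card hq
  have hk : finrank F (ι → F) = 2 * d := by rw [Module.finrank_fintype_fun_eq_card, hcard]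
  constructor
  · rintro ⟨g, hgΩ, hgg⟩
    have hiso : ∀ x, Q (Matrix.toLin' ((g : GL ι F) : Matrix ι ι F) x) = Q x := by
      intro x
      rw [Matrix.toLin'_apply]
      exact (Cfsg.Agent.Lib.Helper5.OrthCard.mem_isometryGroup_iff (⇑Q) g).1 g.2 x
    have hlgg : ∀ v, Matrix.toLin' ((g : GL ι F) : Matrix ι ι F)
        (Matrix.toLin' ((g : GL ι F) : Matrix ι ι F) v) = -v := by
      intro v
      rw [Matrix.toLin'_apply, Matrix.toLin'_apply, Matrix.mulVec_mulVec, hgg,
        Matrix.neg_mulVec, Matrix.one_mulVec]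
    exact ⟨hε.unique (hasSign_of_neg_sq hq Q hQ _ hiso hlgg d hd1 hk),
      (mem_Omega_iff_of_neg_sq h2 Q hQ d hd1 hcard g hgg).1 hgΩ⟩
  · rintro ⟨hεσ, hsq⟩
    obtain ⟨g, hgg⟩ := exists_neg_sq hq Q hQ d hd1 hcard (hεσ ▸ hε)
    exact ⟨g, (mem_Omega_iff_of_neg_sq h2 Q hQ d hd1 hcard g hgg).2 hsq, hgg⟩

end crit

end Cfsg.Agent.Lib.Helper5.OParab
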