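import Mathlib
import Cfsg.Agent.Lib.Helper5.OParab.Suff
import Cfsg.Agent.Lib.Helper5.OElus.Corner

set_option autoImplicit false

/-!
# Isometry classes of nondegenerate subspaces: counting
-/

namespace Cfsg.Agent.Lib.Helper5.OParab

open QuadraticMap Module Cfsg
open Cfsg.Agent.Lib.Helper5.QuadTwo Cfsg.Agent.Lib.Helper5.QuadSign
open Cfsg.Agent.Lib.Helper5.OrthPrime Cfsg.Agent.Lib.Helper5.OElus
open Cfsg.Agent.Lib.Helper2 Cfsg.Agent.Lib.Helper2.SpImp

universe u

section basic
variable {F : Type u} [Field F] {V : Type u} [AddCommGroup V] [Module F V]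
  {V₀ : Type u} [AddCommGroup V₀] [Module F V₀]

/-- `W` is isometric to the model space `(V₀, Q₀)` -/
def IsoTo (Q : QuadraticForm F V) (Q₀ : QuadraticForm F V₀) (W : Submodule F V) : Prop :=
  ∃ e : W ≃ₗ[F] V₀, ∀ w : W, Q₀ (e w) = Q (w : V)

theorem isoTo_res_iff (Q : QuadraticForm F V) (W W₀ : Submodule F V) :
    IsoTo Q (res Q W₀) W ↔ IsoOn Q W W₀ := Iff.rfl

theorem IsoTo.finrank_eq {Q : QuadraticForm F V} {Q₀ : QuadraticForm F V₀} {W : Submodule F V}
    (h : IsoTo Q Q₀ W) : finrank F W = finrank F V₀ := by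
  obtain ⟨e, -⟩ := h
  exact e.finrank_eq

theorem IsoTo.ndOn {Q : QuadraticForm F V} {Q₀ : QuadraticForm F V₀} {W : Submodule F V}
    (h : IsoTo Q Q₀ W) (hQ₀ : Nd Q₀) : NdOn Q W := by
  obtain ⟨e, he⟩ := h
  have hpol : ∀ x y : W, polar Q₀ (e x) (e y) = polar Q (x : V) (y : V) := by
    intro x y
    unfold polar
    rw [← map_add, he, he, he]
    rfl
  intro v hv hvw
  have h1 : e ⟨v, hv⟩ = 0 := by
    apply hQ₀
    intro w
    obtain ⟨w', rfl⟩ := e.surjective w
    rw [hpol]
    exact hvw w'.1 w'.2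
  have h2 := e.map_eq_zero_iff.1 h1
  exact congrArg Subtype.val h2

theorem isoTo_map (Q : QuadraticForm F V) (Q₀ : QuadraticForm F V₀) (g : V ≃ₗ[F] V)
    (hg : ∀ x, Q (g x) = Q x) (W : Submodule F V) (h : IsoTo Q Q₀ W) :
    IsoTo Q Q₀ (W.map (g : V →ₗ[F] V)) := by
  obtain ⟨e, he⟩ := h
  refine ⟨(g.submoduleMap W).symm.trans e, ?_⟩
  intro w
  rw [LinearEquiv.trans_apply, he]
  have h1 : g (((g.submoduleMap W).symm w : W) : V) = (w : V) := by
    have := congrArg Subtype.val ((g.submoduleMap W).apply_symm_apply w)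
    rwa [LinearEquiv.submoduleMap_apply] at this
  rw [← h1, hg]

theorem isoTo_map_subtype_iff (Q : QuadraticForm F V) (Q₀ : QuadraticForm F V₀)
    (C : Submodule F V) (W' : Submodule F C) :
    IsoTo Q Q₀ (W'.map C.subtype) ↔ IsoTo (res Q C) Q₀ W' := by
  have hcoe : ∀ x : W', ((Submodule.equivSubtypeMap C W' x : W'.map C.subtype) : V) =
      ((x : C) : V) := fun x => rfl
  constructor
  · rintro ⟨e, he⟩
    refine ⟨(Submodule.equivSubtypeMap C W').trans e, fun w => ?_⟩
    rw [LinearEquiv.trans_apply, he, hcoe, res_apply]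
  · rintro ⟨e, he⟩
    refine ⟨(Submodule.equivSubtypeMap C W').symm.trans e, fun w => ?_⟩
    rw [LinearEquiv.trans_apply, he, res_apply, ← hcoe, LinearEquiv.apply_symm_apply]

/-- the subspaces of the class contained in `C` are the subspaces of the class of `C` -/
theorem card_isoTo_sub_eq (Q : QuadraticForm F V) (Q₀ : QuadraticForm F V₀)
    (C : Submodule F V) :
    Nat.card {W : Submodule F V // IsoTo Q Q₀ W ∧ W ≤ C} =
      Nat.card {W' : Submodule F C // IsoTo (res Q C) Q₀ W'} := by
  symm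
  refine Nat.card_eq_of_bijective
    (fun W' => ⟨W'.1.map C.subtype, (isoTo_map_subtype_iff Q Q₀ C W'.1).2 W'.2, ?_⟩) ⟨?_, ?_⟩
  · intro x hx
    obtain ⟨y, -, rfl⟩ := Submodule.mem_map.1 hx
    exact y.2
  · intro W₁ W₂ h
    have h1 := congrArg Subtype.val h
    exact Subtype.ext (Submodule.map_injective_of_injective C.injective_subtype h1)
  · rintro ⟨W, hW, hWC⟩
    have hmap : (W.comap C.subtype).map C.subtype = W := by
      rw [Submodule.map_comap_subtype]
      exact inf_eq_right.2 hWC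
    refine ⟨⟨W.comap C.subtype, ?_⟩, Subtype.ext hmap⟩
    rw [← isoTo_map_subtype_iff, hmap]
    exact hW

end basic

section count
variable {F : Type u} [Field F] [Fintype F] {V : Type u} [AddCommGroup V] [Module F V]
  [FiniteDimensional F V] {V₀ : Type u} [AddCommGroup V₀] [Module F V₀]

/-- the size of an isometry class of subspaces divides the order of the isometry group -/
theorem card_isoTo_dvd (hq : Odd (Fintype.card F)) (Q : QuadraticForm F V) (hQ : Nd Q)
    (Q₀ : QuadraticForm F V₀) (W₁ : Submodule F V) (hW₁ : IsoTo Q Q₀ W₁) :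
    Nat.card {W : Submodule F V // IsoTo Q Q₀ W} ∣ Nat.card (isoGroup (polarBilin Q)) := by
  classical
  have h2 : (2 : F) ≠ 0 := Cfsg.Agent.Lib.Helper5.two_ne_zero_of_odd_card hq
  let _ := SpTi.subAction (F := F) (V := V)
  have hQ' : (polarBilin Q).Nondegenerate := by
    constructor
    · intro x hx
      apply hQ x
      intro w
      have := hx w
      rwa [polarBilin_apply_apply, polar_comm] at this
    · intro y hy
      apply hQ y
      intro w
      have := hy w
      rwa [polarBilin_apply_apply] at this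
  have hisoQ : ∀ g : V ≃ₗ[F] V, g ∈ isoGroup (polarBilin Q) → ∀ x, Q (g x) = Q x := by
    intro g hg x
    have h1 := hg x x
    rw [polarBilin_apply_apply, polarBilin_apply_apply, polar_self, polar_self, nsmul_eq_mul,
      nsmul_eq_mul, Nat.cast_ofNat] at h1
    exact mul_left_cancel₀ h2 h1
  have hset : MulAction.orbit (isoGroup (polarBilin Q)) W₁ =
      {W : Submodule F V | IsoTo Q Q₀ W} := by
    ext W
    constructor
    · rintro ⟨g, rfl⟩
      exact isoTo_map Q Q₀ (g : V ≃ₗ[F] V) (hisoQ g g.2) W₁ hW₁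
    · intro hW
      obtain ⟨e₁, he₁⟩ := hW₁
      obtain ⟨e, he⟩ := hW
      obtain ⟨g, hg, hgφ⟩ := Cfsg.Agent.Lib.Helper5.QuadIsom.witt Q hQ' W₁ W (e₁.trans e.symm)
        (fun x => by
          rw [← he, LinearEquiv.trans_apply, LinearEquiv.apply_symm_apply, he₁])
      have hgB : g ∈ isoGroup (polarBilin Q) := by
        intro u v
        rw [polarBilin_apply_apply, polarBilin_apply_apply]
        have := polar_of_isom' Q (g : V →ₗ[F] V) hg u v
        rwa [LinearEquiv.coe_coe] at this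
      refine ⟨⟨g, hgB⟩, ?_⟩
      show W₁.map (g : V →ₗ[F] V) = W
      apply Submodule.eq_of_le_of_finrank_eq
      · rintro _ ⟨x, hx, rfl⟩
        rw [LinearEquiv.coe_coe, hgφ ⟨x, hx⟩]
        exact ((e₁.trans e.symm) ⟨x, hx⟩).2
      · rw [LinearEquiv.finrank_map_eq g W₁, e₁.finrank_eq, e.finrank_eq]
  have h1 : Nat.card (MulAction.orbit (isoGroup (polarBilin Q)) W₁) =
      Nat.card {W : Submodule F V // IsoTo Q Q₀ W} :=
    Nat.card_congr (Equiv.setCongr hset)
  rw [← h1, Nat.card_congr (MulAction.orbitEquivQuotientStabilizer (isoGroup (polarBilin Q)) W₁),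
    Subgroup.card_eq_card_quotient_mul_card_subgroup
      (MulAction.stabilizer (isoGroup (polarBilin Q)) W₁)]
  exact dvd_mul_right _ _

/-- **if `r` divides the size of an isometry class then the dimension is at least `c`** -/
theorem le_finrank_of_dvd_card_iso (hq : Odd (Fintype.card F)) (Q : QuadraticForm F V)
    (hQ : Nd Q) (Q₀ : QuadraticForm F V₀) (W₁ : Submodule F V) (hW₁ : IsoTo Q Q₀ W₁) (r : ℕ)
    [hr : Fact r.Prime] (hr2 : r ≠ 2) (hrq : ¬ r ∣ Fintype.card F)
    (hdvd : r ∣ Nat.card {W : Submodule F V // IsoTo Q Q₀ W}) (i c : ℕ)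
    (hi : i = orderOf ((Fintype.card F : ℕ) : ZMod r)) (hc : c = if Even i then i else 2 * i) :
    c ≤ finrank F V := by
  obtain ⟨y, hyB, hyr, hy1⟩ := exists_order_r (polarBilin Q) r
    (hdvd.trans (card_isoTo_dvd hq Q hQ Q₀ W₁ hW₁))
  have hr0 : 0 < r := hr.out.pos
  have hyy : ∀ x, y ((y ^ (r - 1)) x) = x := by
    intro x
    rw [← Module.End.mul_apply, ← pow_succ', Nat.sub_add_cancel hr0, hyr, Module.End.one_apply]
  have h1 := dvd_finrank_sub_fix (polarBilin Q) (symm_polarBilin Q) y (y ^ (r - 1)) hyB hyy r hr2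
    hrq hyr i c hi hc ⊤ (fun _ _ => Submodule.mem_top) (fun _ _ => Submodule.mem_top)
    (fun w _ hw => hQ w (fun u => by
      have := hw u Submodule.mem_top
      rwa [polarBilin_apply_apply, polar_comm] at this))
  rw [top_inf_eq, finrank_top] at h1
  have h2 : finrank F (LinearMap.ker (y - 1)) < finrank F V := by
    by_contra hcon
    push Not at hcon
    have h3 : LinearMap.ker (y - 1) = ⊤ :=
      Submodule.eq_top_of_finrank_eq (le_antisymm (Submodule.finrank_le _) hcon)
    apply hy1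
    apply LinearMap.ext
    intro x
    have h4 : x ∈ LinearMap.ker (y - 1) := by rw [h3]; exact Submodule.mem_top
    rw [LinearMap.mem_ker, LinearMap.sub_apply, Module.End.one_apply, sub_eq_zero] at h4
    rw [h4, Module.End.one_apply]
  have h5 := Nat.le_of_dvd (by omega) h1
  omega

end count

end Cfsg.Agent.Lib.Helper5.OParab
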