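import Mathlib
import Cfsg.Agent.Lib.Helper5.OParab.Cls

set_option autoImplicit false

/-!
# The dimension of the subspaces is at least `c` when `r` divides the size of the isometry class
-/

namespace Cfsg.Agent.Lib.Helper5.OParab

open QuadraticMap Module Cfsg
open Cfsg.Agent.Lib.Helper5.QuadTwo Cfsg.Agent.Lib.Helper5.QuadSign
open Cfsg.Agent.Lib.Helper5.OrthPrime Cfsg.Agent.Lib.Helper5.OElus
open Cfsg.Agent.Lib.Helper2 Cfsg.Agent.Lib.Helper2.SpImp

universe u

section corner
variable {F : Type u} [Field F] [Fintype F] {V : Type u} [AddCommGroup V] [Module F V]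
  [FiniteDimensional F V] {V₀ : Type u} [AddCommGroup V₀] [Module F V₀]

/-- **the corner case**: if `r` divides the size of the isometry class of `(V₀, Q₀)`, and some
element of order `r` has a fixed space of dimension less than `c` containing a member of the
class, then `c ≤ dim V₀` -/
theorem le_of_dvd_card_iso (hq : Odd (Fintype.card F)) {p : ℕ} [hp : Fact p.Prime] [CharP F p]
    (Q : QuadraticForm F V) (hQ : Nd Q)
    (g gi : V →ₗ[F] V) (hiso : ∀ x, Q (g x) = Q x) (gi_g : ∀ x, gi (g x) = x)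
    (g_gi : ∀ x, g (gi x) = x) (r : ℕ) [hr : Fact r.Prime] (hr2 : r ≠ 2) (hrp : r ≠ p)
    (hrq : ¬ r ∣ Fintype.card F)
    (hgr : g ^ r = 1) (i c : ℕ) (hi : i = orderOf ((Fintype.card F : ℕ) : ZMod r))
    (hc : c = if Even i then i else 2 * i)
    (hfd : finrank F (LinearMap.ker (g - 1)) < c) (Q₀ : QuadraticForm F V₀) (hQ₀ : Nd Q₀)
    (hbase : ∃ W₁ : Submodule F V, W₁ ≤ LinearMap.ker (g - 1) ∧ IsoTo Q Q₀ W₁)
    (hdvd : r ∣ Nat.card {W : Submodule F V // IsoTo Q Q₀ W}) : c ≤ finrank F V₀ := by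
  by_contra hcon
  push Not at hcon
  have h2 : (2 : F) ≠ 0 := Cfsg.Agent.Lib.Helper5.two_ne_zero_of_odd_card hq
  have hr0 : 0 < r := hr.out.pos
  have rodd : Odd r := hr.out.odd_of_ne_two hr2
  have r0 : (r : F) ≠ 0 := by
    intro h
    have h1 := (CharP.cast_eq_zero_iff F p r).mp h
    exact hrp ((Nat.prime_dvd_prime_iff_eq hp.out hr.out).mp h1).symm
  obtain ⟨C, hC⟩ : ∃ C : Submodule F V, C = LinearMap.ker (g - 1) := ⟨_, rfl⟩
  have memC : ∀ x, x ∈ C ↔ g x = x := by
    intro x
    rw [hC, LinearMap.mem_ker, LinearMap.sub_apply, Module.End.one_apply, sub_eq_zero]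
  -- nondegeneracy of the fixed space
  obtain ⟨D, hD⟩ : ∃ D : OData F V, D = mkOData Q hQ g gi hiso gi_g g_gi r hgr rodd r0 h2 :=
    ⟨_, rfl⟩
  have hDV1 : D.V1 = C := by rw [hD, hC]; rfl
  have hBnd : Nondeg (polarBilin Q) := fun v hv => hQ v (fun w => by
    have := hv w
    rwa [polarBilin_apply_apply] at this)
  have hCnd : NdOn Q C := by
    rw [← hDV1]
    exact (nondeg_res_iff Q D.V1).1
      (nondeg_of_isCompl (symm_polarBilin Q) hBnd D.isCompl (fun u hu w hw => by
        have := D.orth u hu w hw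
        rw [hD] at this
        exact this))
  have hisoB : ∀ x y, polarBilin Q (g x) (g y) = polarBilin Q x y := by
    intro x y
    rw [polarBilin_apply_apply, polarBilin_apply_apply]
    exact polar_of_isom' Q g hiso x y
  -- the fixed point congruence
  have hP : ∀ W, IsoTo Q Q₀ W → IsoTo Q Q₀ (W.map g) := by
    intro W hW
    obtain ⟨ge, hge⟩ := exists_equiv_of_pow hr0 hgr
    rw [← hge]
    exact isoTo_map Q Q₀ ge (fun x => by
      have := hiso x
      rw [← hge] at this
      exact this) W hW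
  have hcong := card_pred_fix_modEq r hgr (IsoTo Q Q₀) hP
  have hfixset : ∀ W, IsoTo Q Q₀ W → (Elus.Inv g W ↔ W ≤ C) := by
    intro W hW
    constructor
    · intro hWg
      have hWi : ∀ x ∈ W, gi x ∈ W := gi_mem_of_inv g gi gi_g r hr0 hgr W hWg
      have hWnd := hW.ndOn hQ₀
      have h1 := dvd_finrank_sub_fix (polarBilin Q) (symm_polarBilin Q) g gi hisoB g_gi r hr2 hrq
        hgr i c hi hc W hWg hWi (fun w hw hwu => hWnd w hw (fun u hu => by
          have := hwu u hu
          rwa [polarBilin_apply_apply, polar_comm] at this))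
      rw [hW.finrank_eq, ← hC] at h1
      have h3 : finrank F V₀ - finrank F (W ⊓ C : Submodule F V) = 0 := by
        rcases Nat.eq_zero_or_pos (finrank F V₀ - finrank F (W ⊓ C : Submodule F V)) with h | h
        · exact h
        · have := Nat.le_of_dvd h h1
          omega
      have h4 : (W ⊓ C : Submodule F V) = W := by
        apply Submodule.eq_of_le_of_finrank_le inf_le_left
        rw [hW.finrank_eq]
        omega
      rw [← h4]
      exact inf_le_right
    · intro hWC x hx
      rw [(memC x).1 (hWC hx)]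
      exact hx
  have hcard1 : Nat.card {W : Submodule F V // IsoTo Q Q₀ W ∧ Elus.Inv g W} =
      Nat.card {W : Submodule F V // IsoTo Q Q₀ W ∧ W ≤ C} :=
    Nat.card_congr (Equiv.subtypeEquivRight (fun W =>
      ⟨fun h => ⟨h.1, (hfixset W h.1).1 h.2⟩, fun h => ⟨h.1, (hfixset W h.1).2 h.2⟩⟩))
  rw [hcard1, card_isoTo_sub_eq] at hcong
  have hdvd' : r ∣ Nat.card {W' : Submodule F C // IsoTo (res Q C) Q₀ W'} :=
    (hcong.dvd_iff dvd_rfl).1 hdvd
  -- a base point
  have hNdC : Nd (res Q C) := (nd_res_iff Q C).2 hCnd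
  obtain ⟨W₁, hW₁C, hW₁⟩ := hbase
  rw [← hC] at hW₁C
  have hmap : (W₁.comap C.subtype).map C.subtype = W₁ := by
    rw [Submodule.map_comap_subtype]
    exact inf_eq_right.2 hW₁C
  have hW₁' : IsoTo (res Q C) Q₀ (W₁.comap C.subtype) := by
    rw [← isoTo_map_subtype_iff, hmap]
    exact hW₁
  have := le_finrank_of_dvd_card_iso hq (res Q C) hNdC Q₀ _ hW₁' r hr2 hrq hdvd' i c hi hc
  rw [hC] at this
  omega

end corner

end Cfsg.Agent.Lib.Helper5.OParab
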