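import Mathlib
import Cfsg.Agent.Lib.Helper5.OParab.Corner
import Cfsg.Agent.Lib.Helper5.OElus.Main

set_option autoImplicit false

/-!
# Auxiliary lemmas for the main theorem on isometry classes of odd-dimensional subspaces
-/

namespace Cfsg.Agent.Lib.Helper5.OParab

open QuadraticMap Module Cfsg
open Cfsg.Agent.Lib.Helper5.QuadTwo Cfsg.Agent.Lib.Helper5.QuadSign
open Cfsg.Agent.Lib.Helper5.OrthPrime Cfsg.Agent.Lib.Helper5.OElus
open Cfsg.Agent.Lib.Helper2 Cfsg.Agent.Lib.Helper2.SpImp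

universe u

section lin
variable {F : Type u} [Field F] [Fintype F] {V : Type u} [AddCommGroup V] [Module F V]
  [FiniteDimensional F V]

omit [Fintype F] [FiniteDimensional F V] in
/-- a nondegenerate form on a nonzero space has a nonsingular vector -/
theorem exists_nonsing (Q : QuadraticForm F V) (hQ : Nd Q) [Nontrivial V] : ∃ v, Q v ≠ 0 := by
  by_contra hcon
  push Not at hcon
  obtain ⟨x, hx⟩ := exists_ne (0 : V)
  apply hx
  apply hQ x
  intro w
  unfold polar
  rw [hcon, hcon, hcon]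
  ring

omit [Fintype F] in
/-- the fixed space of an isometry of odd order prime to the characteristic is nondegenerate -/
theorem ndOn_ker_sub_one (Q : QuadraticForm F V) (hQ : Nd Q) (g gi : V →ₗ[F] V)
    (hiso : ∀ x, Q (g x) = Q x) (gi_g : ∀ x, gi (g x) = x) (g_gi : ∀ x, g (gi x) = x) (r : ℕ)
    (hgr : g ^ r = 1) (rodd : Odd r) (r0 : (r : F) ≠ 0) (h2 : (2 : F) ≠ 0) :
    NdOn Q (LinearMap.ker (g - 1)) := by
  obtain ⟨D, hD⟩ : ∃ D : OData F V, D = mkOData Q hQ g gi hiso gi_g g_gi r hgr rodd r0 h2 :=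
    ⟨_, rfl⟩
  have hDV1 : D.V1 = LinearMap.ker (g - 1) := by rw [hD]; rfl
  have hBnd : Nondeg (polarBilin Q) := fun v hv => hQ v (fun w => by
    have := hv w
    rwa [polarBilin_apply_apply] at this)
  rw [← hDV1]
  exact (nondeg_res_iff Q D.V1).1
    (nondeg_of_isCompl (symm_polarBilin Q) hBnd D.isCompl (fun u hu w hw => by
      have := D.orth u hu w hw
      rw [hD] at this
      exact this))

/-- the dimension of an invariant nondegenerate subspace modulo `c` -/
theorem mod_le_of_inv (Q : QuadraticForm F V) (g gi : V →ₗ[F] V) (hiso : ∀ x, Q (g x) = Q x)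
    (gi_g : ∀ x, gi (g x) = x) (g_gi : ∀ x, g (gi x) = x) (r : ℕ) [hr : Fact r.Prime]
    (hr2 : r ≠ 2) (hrq : ¬ r ∣ Fintype.card F) (hgr : g ^ r = 1) (i c : ℕ)
    (hi : i = orderOf ((Fintype.card F : ℕ) : ZMod r)) (hc : c = if Even i then i else 2 * i)
    (hfd : finrank F (LinearMap.ker (g - 1)) < c) (W : Submodule F V)
    (hWg : ∀ x ∈ W, g x ∈ W) (hWnd : NdOn Q W) :
    finrank F W % c = finrank F (W ⊓ LinearMap.ker (g - 1) : Submodule F V) := by
  have hr0 : 0 < r := hr.out.pos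
  have hisoB : ∀ x y, polarBilin Q (g x) (g y) = polarBilin Q x y := by
    intro x y
    rw [polarBilin_apply_apply, polarBilin_apply_apply]
    exact polar_of_isom' Q g hiso x y
  have hWi : ∀ x ∈ W, gi x ∈ W := gi_mem_of_inv g gi gi_g r hr0 hgr W hWg
  obtain ⟨t, ht⟩ := dvd_finrank_sub_fix (polarBilin Q) (symm_polarBilin Q) g gi hisoB g_gi r hr2
    hrq hgr i c hi hc W hWg hWi (fun w hw hwu => hWnd w hw (fun u hu => by
      have := hwu u hu
      rwa [polarBilin_apply_apply, polar_comm] at this))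
  have h1 : finrank F (W ⊓ LinearMap.ker (g - 1) : Submodule F V) ≤ finrank F W :=
    Submodule.finrank_mono inf_le_left
  have h2 : finrank F (W ⊓ LinearMap.ker (g - 1) : Submodule F V) ≤
      finrank F (LinearMap.ker (g - 1)) := Submodule.finrank_mono inf_le_right
  have h3 : finrank F W = finrank F (W ⊓ LinearMap.ker (g - 1) : Submodule F V) + c * t := by
    omega
  rw [h3, Nat.add_mul_mod_self_left, Nat.mod_eq_of_lt (by omega)]

end lin

section mat
variable {F : Type u} [Field F] {ι : Type} [Fintype ι] [DecidableEq ι]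

/-- a scalar isometry is `±1` -/
theorem sq_eq_one_of_scalar (Q : QuadraticForm F (ι → F)) (hQ : Nd Q) [Nonempty ι]
    (x : GL ι F) (hx : x ∈ Cfsg.isometryGroup F ⇑Q) (z : F)
    (hz : (x : Matrix ι ι F) = z • (1 : Matrix ι ι F)) : z ^ 2 = 1 := by
  have : Nontrivial (ι → F) := Function.nontrivial
  obtain ⟨v, hv⟩ := exists_nonsing Q hQ
  have h1 := (Cfsg.Agent.Lib.Helper5.OrthCard.mem_isometryGroup_iff (⇑Q) x).1 hx v
  rw [hz, Matrix.smul_mulVec, Matrix.one_mulVec, QuadraticMap.map_smul, smul_eq_mul] at h1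
  have h2 : (z * z - 1) * Q v = 0 := by linear_combination h1
  rcases mul_eq_zero.1 h2 with h | h
  · rw [pow_two]
    exact sub_eq_zero.1 h
  · exact absurd h hv

/-- a nontrivial isometry of odd order is not a scalar -/
theorem not_scalar_of_odd_order (Q : QuadraticForm F (ι → F)) (hQ : Nd Q) [Nonempty ι]
    (x : GL ι F) (hx : x ∈ Cfsg.isometryGroup F ⇑Q) (r : ℕ) (rodd : Odd r) (hxr : x ^ r = 1)
    (hx1 : x ≠ 1) (z : F) : (x : Matrix ι ι F) ≠ z • (1 : Matrix ι ι F) := by
  intro hz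
  have hz2 := sq_eq_one_of_scalar Q hQ x hx z hz
  have h1 : ((x ^ r : GL ι F) : Matrix ι ι F) = z ^ r • (1 : Matrix ι ι F) := by
    rw [Units.val_pow_eq_pow_val, hz, smul_pow, one_pow]
  rw [hxr, Units.val_one] at h1
  obtain ⟨k, hk⟩ := rodd
  have h2 : z ^ r = z := by rw [hk, pow_succ, pow_mul, hz2, one_pow, one_mul]
  rw [h2] at h1
  apply hx1
  apply Units.ext
  rw [hz, ← h1, Units.val_one]

end mat

end Cfsg.Agent.Lib.Helper5.OParab
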