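import Mathlib
import Cfsg.Agent.Lib.Helper5.OParab.Lemmas

set_option autoImplicit false

/-!
# Elements of prime order of `Ω^±_{2d}(q)`, `q` odd, fixing a nondegenerate subspace of odd
dimension in a given isometry class: the general statement
-/

namespace Cfsg.Agent.Lib.Helper5.OParab

open QuadraticMap Module Cfsg
open Cfsg.Agent.Lib.Helper5.QuadTwo Cfsg.Agent.Lib.Helper5.QuadSign
open Cfsg.Agent.Lib.Helper5.OrthPrime Cfsg.Agent.Lib.Helper5.OElus
open Cfsg.Agent.Lib.Helper2 Cfsg.Agent.Lib.Helper2.SpImp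

universe u

section main
variable {F : Type u} [Field F] [Fintype F] {ι : Type} [Fintype ι] [DecidableEq ι]

set_option maxHeartbeats 1600000 in
/-- **the general statement**, with the existence of the relevant elements as hypotheses -/
theorem main_iff {p : ℕ} [hp : Fact p.Prime] [CharP F p] {q : ℕ}
    (hq : Fintype.card F = q) (hqodd : Odd q) (Q : QuadraticForm F (ι → F)) (hQ : Nd Q)
    (d m : ℕ) (hcard : Fintype.card ι = 2 * d) (hm : Odd m) (hmd : m < d)
    (W₀ : Submodule F (ι → F))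
    (hW₀ : finrank F W₀ = m ∧ Cfsg.Geo.IsNondegenerateOn (polar ⇑Q) W₀)
    (r : ℕ) [hr : Fact r.Prime]
    (hrΩ : r ∣ Nat.card {W : Submodule F (ι → F) // finrank F W = m ∧
      Cfsg.Geo.IsNondegenerateOn (polar ⇑Q) W ∧ Cfsg.Geo.AreIsometricFor ⇑Q W W₀})
    (i c : ℕ) (hi : i = orderOf (q : ZMod r)) (hc : c = if Even i then i else 2 * i)
    (A2 Afpf : Prop)
    (h2ex : ¬ A2 → ∃ g : ↥(Cfsg.isometryGroup F ⇑Q), g ∈ Cfsg.Omega F ⇑Q ∧
      ((g : GL ι F) : Matrix ι ι F) * ((g : GL ι F) : Matrix ι ι F) = -1)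
    (h2no : A2 → ∀ g : ↥(Cfsg.isometryGroup F ⇑Q), g ∈ Cfsg.Omega F ⇑Q →
      ((g : GL ι F) : Matrix ι ι F) * ((g : GL ι F) : Matrix ι ι F) ≠ -1)
    (hfpfex : r ≠ 2 → r ≠ p → (2 * d) % c = 0 → ¬ Afpf →
      ∃ g : ↥(Cfsg.isometryGroup F ⇑Q), g ^ r = 1 ∧ g ∈ Cfsg.Omega F ⇑Q ∧
        ∀ v, Matrix.toLin' ((g : GL ι F) : Matrix ι ι F) v = v → v = 0)
    (hfpfno : r ≠ 2 → r ≠ p → (2 * d) % c = 0 → Afpf →
      ∀ g : (ι → F) →ₗ[F] (ι → F), (∀ x, Q (g x) = Q x) → g ^ r = 1 →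
        LinearMap.ker (g - 1) ≠ ⊥)
    (hmax : r ≠ 2 → r ≠ p → c ≤ 2 * d → 0 < (2 * d) % c →
      ∃ g : ↥(Cfsg.isometryGroup F ⇑Q), g ^ r = 1 ∧ g ≠ 1 ∧ g ∈ Cfsg.Omega F ⇑Q ∧
        finrank F (LinearMap.ker (Matrix.toLin' ((g : GL ι F) : Matrix ι ι F) - 1)) =
          (2 * d) % c)
    (hunip : r = p → ∃ x : GL ι F, x ∈ Cfsg.Geo.omegaGL ⇑Q ∧ x ^ p = 1 ∧ x ≠ 1 ∧
      ∀ W : Submodule F (ι → F), (finrank F W = m ∧
        Cfsg.Geo.IsNondegenerateOn (polar ⇑Q) W ∧ Cfsg.Geo.AreIsometricFor ⇑Q W W₀) →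
        ¬ W.map (Matrix.toLin' (x : Matrix ι ι F)) ≤ W) :
    (∀ x : GL ι F, x ∈ Cfsg.Geo.omegaGL ⇑Q →
      (∃ z : F, ((x ^ r : GL ι F) : Matrix ι ι F) = z • (1 : Matrix ι ι F)) →
      (∀ z : F, (x : Matrix ι ι F) ≠ z • (1 : Matrix ι ι F)) →
      ∃ W : Submodule F (ι → F), (finrank F W = m ∧
        Cfsg.Geo.IsNondegenerateOn (polar ⇑Q) W ∧ Cfsg.Geo.AreIsometricFor ⇑Q W W₀) ∧
        W.map (Matrix.toLin' (x : Matrix ι ι F)) ≤ W) ↔
    ((r = 2 ∧ A2) ∨ (r ≠ p ∧ 2 < r ∧ ((0 < (2 * d) % c ∧ c ≤ m ∧ m % c < (2 * d) % c) ∨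
      ((2 * d) % c = 0 ∧ Afpf)))) := by
  subst hq
  have h2 : (2 : F) ≠ 0 := Cfsg.Agent.Lib.Helper5.two_ne_zero_of_odd_card hqodd
  have hp2 : p ≠ 2 := by
    rintro rfl
    obtain ⟨n, -, hn⟩ := FiniteField.card F 2
    rw [hn] at hqodd
    exact (Nat.not_even_iff_odd.2 hqodd) (Nat.even_pow.2 ⟨even_two, n.ne_zero⟩)
  obtain ⟨f₀, hqp⟩ : ∃ f₀ : ℕ, Fintype.card F = p ^ f₀ := by
    obtain ⟨n, -, hn⟩ := FiniteField.card F p
    exact ⟨n, hn⟩
  have hm0 : 0 < m := hm.pos
  have : Nonempty ι := by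
    rw [← Fintype.card_pos_iff, hcard]
    omega
  have : Nontrivial (ι → F) := Function.nontrivial
  have hn : finrank F (ι → F) = 2 * d := by rw [Module.finrank_fintype_fun_eq_card, hcard]
  have hW₀nd : NdOn Q W₀ := (isNondegenerateOn_iff Q W₀).1 hW₀.2
  have hQ₀ : Nd (res Q W₀) := (nd_res_iff Q W₀).2 hW₀nd
  have class_iff : ∀ W : Submodule F (ι → F), (finrank F W = m ∧
      Cfsg.Geo.IsNondegenerateOn (polar ⇑Q) W ∧ Cfsg.Geo.AreIsometricFor ⇑Q W W₀) ↔
      IsoTo Q (res Q W₀) W := by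
    intro W
    constructor
    · rintro ⟨-, -, h⟩
      exact h
    · intro h
      exact ⟨by rw [h.finrank_eq, hW₀.1], (isNondegenerateOn_iff Q W).2 (h.ndOn hQ₀), h⟩
  have hmem : ∀ x : GL ι F, x ∈ Cfsg.Geo.omegaGL ⇑Q → x ∈ Cfsg.isometryGroup F ⇑Q := by
    rintro x ⟨y, -, rfl⟩
    exact y.2
  have homega : ∀ x : GL ι F, x ∈ Cfsg.Geo.omegaGL ⇑Q →
      ∃ y : ↥(Cfsg.isometryGroup F ⇑Q), y ∈ Cfsg.Omega F ⇑Q ∧ (y : GL ι F) = x := by
    rintro x ⟨y, hy, rfl⟩
    exact ⟨y, hy, rfl⟩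
  constructor
  · -- necessity
    intro H
    rcases eq_or_ne r 2 with hr2 | hr2
    · left
      refine ⟨hr2, ?_⟩
      by_contra hA2
      obtain ⟨g, hgΩ, hgg⟩ := h2ex hA2
      have hxΩ : (g : GL ι F) ∈ Cfsg.Geo.omegaGL ⇑Q := ⟨g, hgΩ, rfl⟩
      have hns : ∀ z : F, ((g : GL ι F) : Matrix ι ι F) ≠ z • (1 : Matrix ι ι F) := by
        intro z hz
        have hz2 := sq_eq_one_of_scalar Q hQ _ g.2 z hz
        rw [hz, Matrix.smul_mul, Matrix.one_mul, smul_smul] at hgg
        obtain ⟨j⟩ := ‹Nonempty ι›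
        have h5 := congrFun (congrFun hgg j) j
        rw [Matrix.smul_apply, Matrix.one_apply_eq, Matrix.neg_apply, Matrix.one_apply_eq,
          smul_eq_mul, mul_one, ← pow_two, hz2] at h5
        exact h2 (by linear_combination h5)
      have hxr : ∃ z : F, (((g : GL ι F) ^ r : GL ι F) : Matrix ι ι F) =
          z • (1 : Matrix ι ι F) := by
        refine ⟨-1, ?_⟩
        rw [hr2, Units.val_pow_eq_pow_val, pow_two, hgg, neg_smul, one_smul]
      obtain ⟨W, hWc, hWinv⟩ := H _ hxΩ hxr hns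
      have hiso : ∀ v, Q (Matrix.toLin' ((g : GL ι F) : Matrix ι ι F) v) = Q v := by
        intro v
        rw [Matrix.toLin'_apply]
        exact (Cfsg.Agent.Lib.Helper5.OrthCard.mem_isometryGroup_iff (⇑Q) g).1 g.2 v
      have hgg' : ∀ v, Matrix.toLin' ((g : GL ι F) : Matrix ι ι F)
          (Matrix.toLin' ((g : GL ι F) : Matrix ι ι F) v) = -v := by
        intro v
        rw [Matrix.toLin'_apply, Matrix.toLin'_apply, Matrix.mulVec_mulVec, hgg,
          Matrix.neg_mulVec, Matrix.one_mulVec]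
      have hev := even_finrank_of_sq_neg_one h2 Q _ hiso hgg' W
        (fun w hw => hWinv ⟨w, hw, rfl⟩) ((isNondegenerateOn_iff Q W).1 hWc.2.1)
      rw [hWc.1] at hev
      exact (Nat.not_even_iff_odd.2 hm) hev
    · right
      have hr3 : 2 < r := by
        have := hr.out.two_le
        omega
      have rodd : Odd r := hr.out.odd_of_ne_two hr2
      by_cases hrp : r = p
      · exfalso
        obtain ⟨x, hxΩ, hxp, hx1, hbad⟩ := hunip hrp
        have hxr : x ^ r = 1 := by rw [hrp]; exact hxp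
        have hns := not_scalar_of_odd_order Q hQ x (hmem x hxΩ) r rodd hxr hx1
        obtain ⟨W, hWc, hWinv⟩ := H x hxΩ ⟨1, by rw [hxr, Units.val_one, one_smul]⟩ hns
        exact hbad W hWc hWinv
      refine ⟨hrp, hr3, ?_⟩
      have hrq : ¬ r ∣ Fintype.card F := by
        rw [hqp]
        intro h
        exact hrp ((Nat.prime_dvd_prime_iff_eq hr.out hp.out).mp (hr.out.dvd_of_dvd_pow h))
      have r0 : (r : F) ≠ 0 := by
        intro h
        have h1 := (CharP.cast_eq_zero_iff F p r).mp h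
        exact hrp ((Nat.prime_dvd_prime_iff_eq hp.out hr.out).mp h1).symm
      have hdvd : r ∣ Nat.card {W : Submodule F (ι → F) // IsoTo Q (res Q W₀) W} := by
        rw [← Nat.card_congr (Equiv.subtypeEquivRight class_iff)]
        exact hrΩ
      have hbase₀ : IsoTo Q (res Q W₀) W₀ := ⟨LinearEquiv.refl F W₀, fun w => rfl⟩
      have hcn : c ≤ 2 * d := by
        have := le_finrank_of_dvd_card_iso hqodd Q hQ (res Q W₀) W₀ hbase₀ r hr2 hrq hdvd i c hi
          hc
        rwa [hn] at this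
      have hi0 : 0 < i := hi ▸ order_pos' r hrq
      have hc0 : 0 < c := by
        rw [hc]
        split_ifs <;> omega
      have hceven : Even c := by
        rw [hc]
        split_ifs with h
        · exact h
        · exact even_two_mul i
      have h2c : 2 ∣ c := hceven.two_dvd
      have hmc : m % c % 2 = 1 := by
        rw [Nat.mod_mod_of_dvd m h2c]
        exact Nat.odd_iff.1 hm
      have hdc : (2 * d) % c % 2 = 0 := by
        rw [Nat.mod_mod_of_dvd (2 * d) h2c]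
        omega
      rcases Nat.eq_zero_or_pos ((2 * d) % c) with hk₀ | hk₀
      · right
        refine ⟨hk₀, ?_⟩
        by_contra hA
        obtain ⟨g₀, hg₀r, hg₀Ω, hfpf⟩ := hfpfex hr2 hrp hk₀ hA
        have hx₀Ω : (g₀ : GL ι F) ∈ Cfsg.Geo.omegaGL ⇑Q := ⟨g₀, hg₀Ω, rfl⟩
        have hx₀r : (g₀ : GL ι F) ^ r = 1 := by rw [← Subgroup.coe_pow, hg₀r, Subgroup.coe_one]
        have hx₀1 : (g₀ : GL ι F) ≠ 1 := by
          intro h
          obtain ⟨v, hv⟩ := exists_ne (0 : ι → F)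
          apply hv
          apply hfpf v
          rw [h, Units.val_one, Matrix.toLin'_one, LinearMap.id_apply]
        have hns := not_scalar_of_odd_order Q hQ _ g₀.2 r rodd hx₀r hx₀1
        obtain ⟨W, hWc, hWinv⟩ := H _ hx₀Ω ⟨1, by rw [hx₀r, Units.val_one, one_smul]⟩ hns
        obtain ⟨g, gi, hgdef, hiso, gi_g, g_gi, hpow⟩ := exists_lin_data Q _ g₀.2
        have hgr : g ^ r = 1 := hpow r hx₀r
        rw [← hgdef] at hWinv hfpf
        have hker : LinearMap.ker (g - 1) = ⊥ := by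
          rw [eq_bot_iff]
          intro v hv
          rw [LinearMap.mem_ker, LinearMap.sub_apply, Module.End.one_apply, sub_eq_zero] at hv
          rw [Submodule.mem_bot]
          exact hfpf v hv
        have h1 := mod_le_of_inv Q g gi hiso gi_g g_gi r hr2 hrq hgr i c hi hc
          (by rw [hker, finrank_bot]; exact hc0) W (fun w hw => hWinv ⟨w, hw, rfl⟩)
          ((isNondegenerateOn_iff Q W).1 hWc.2.1)
        rw [hker, inf_bot_eq, finrank_bot, hWc.1] at h1
        rw [h1] at hmc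
        omega
      · left
        obtain ⟨g₀, hg₀r, hg₀1, hg₀Ω, hg₀fix⟩ := hmax hr2 hrp hcn hk₀
        have hx₀Ω : (g₀ : GL ι F) ∈ Cfsg.Geo.omegaGL ⇑Q := ⟨g₀, hg₀Ω, rfl⟩
        have hx₀r : (g₀ : GL ι F) ^ r = 1 := by rw [← Subgroup.coe_pow, hg₀r, Subgroup.coe_one]
        have hx₀1 : (g₀ : GL ι F) ≠ 1 := fun h => hg₀1 (Subtype.ext h)
        have hns := not_scalar_of_odd_order Q hQ _ g₀.2 r rodd hx₀r hx₀1
        obtain ⟨W, hWc, hWinv⟩ := H _ hx₀Ω ⟨1, by rw [hx₀r, Units.val_one, one_smul]⟩ hns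
        obtain ⟨g, gi, hgdef, hiso, gi_g, g_gi, hpow⟩ := exists_lin_data Q _ g₀.2
        have hgr : g ^ r = 1 := hpow r hx₀r
        rw [← hgdef] at hWinv hg₀fix
        have hfd : finrank F (LinearMap.ker (g - 1)) < c := by
          rw [hg₀fix]
          exact Nat.mod_lt _ hc0
        have h1 := mod_le_of_inv Q g gi hiso gi_g g_gi r hr2 hrq hgr i c hi hc hfd W
          (fun w hw => hWinv ⟨w, hw, rfl⟩) ((isNondegenerateOn_iff Q W).1 hWc.2.1)
        rw [hWc.1] at h1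
        have h3 : finrank F (W ⊓ LinearMap.ker (g - 1) : Submodule F (ι → F)) ≤
            finrank F (LinearMap.ker (g - 1)) := Submodule.finrank_mono inf_le_right
        rw [← h1, hg₀fix] at h3
        have hlt : m % c < (2 * d) % c := by omega
        refine ⟨hk₀, ?_, hlt⟩
        by_contra hcm
        push Not at hcm
        rw [Nat.mod_eq_of_lt hcm] at hlt
        have hCnd := ndOn_ker_sub_one Q hQ g gi hiso gi_g g_gi r hgr rodd r0 h2
        obtain ⟨W', hW'C, hW'd, hW'nd, hW'iso⟩ := exists_iso_sup hqodd Q (LinearMap.ker (g - 1)) ⊥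
          (fun c' _ u hu => by rw [(Submodule.mem_bot F).1 hu, polar_zero_right]) hCnd
          (ndOn_bot Q) m hm0 (by rw [hg₀fix]; exact hlt) W₀ hW₀nd
          (by rw [finrank_bot, add_zero]; exact hW₀.1)
        rw [sup_bot_eq] at hW'iso
        have := le_of_dvd_card_iso hqodd Q hQ g gi hiso gi_g g_gi r hr2 hrp hrq hgr i c hi hc hfd
          (res Q W₀) hQ₀ ⟨W', hW'C, hW'iso⟩ hdvd
        rw [hW₀.1] at this
        omega
  · -- sufficiency
    intro H x hxΩ hz hns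
    obtain ⟨z, hz⟩ := hz
    obtain ⟨g, gi, hgdef, hiso, gi_g, g_gi, hpow⟩ := exists_lin_data Q x (hmem x hxΩ)
    rw [← hgdef]
    have hz2 : z ^ 2 = 1 :=
      sq_eq_one_of_scalar Q hQ (x ^ r) (Subgroup.pow_mem _ (hmem x hxΩ) r) z hz
    have hzz : z * z = 1 := by rw [← pow_two]; exact hz2
    have hgr : g ^ r = z • (1 : Module.End F (ι → F)) := by
      have h1 : Matrix.toLin' ((x : Matrix ι ι F) ^ r) = Matrix.toLin' (x : Matrix ι ι F) ^ r :=
        map_pow (Matrix.toLinAlgEquiv' (R := F) (n := ι)) _ r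
      rw [hgdef, ← h1, ← Units.val_pow_eq_pow_val, hz, map_smul, Matrix.toLin'_one]
      rfl
    have key : ∃ W : Submodule F (ι → F), finrank F W = finrank F W₀ ∧ NdOn Q W ∧
        IsoOn Q W W₀ ∧ ∀ w ∈ W, g w ∈ W := by
      rcases H with ⟨hr2, hA2⟩ | ⟨hrp, hr3, hcase⟩
      · have hz' : (z - 1) * (z + 1) = 0 := by linear_combination hzz
        rcases mul_eq_zero.1 hz' with h | h
        · have hz1 : z = 1 := sub_eq_zero.1 h
          have hgg : ∀ v, g (g v) = v := by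
            intro v
            have := congrArg (fun f => f v) hgr
            rwa [hr2, pow_two, hz1, one_smul] at this
          exact exists_iso_of_involution hqodd Q hQ g hiso hgg W₀ hW₀nd (by rw [hW₀.1]; exact hm0)
            (by rw [hW₀.1, hn]; omega)
        · exfalso
          have hz1 : z = -1 := eq_neg_of_add_eq_zero_left h
          obtain ⟨y, hyΩ, hyx⟩ := homega x hxΩ
          apply h2no hA2 y hyΩ
          rw [hyx]
          rw [hr2, Units.val_pow_eq_pow_val, pow_two, hz1, neg_smul, one_smul] at hz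
          exact hz
      · have hr2 : r ≠ 2 := by omega
        have rodd : Odd r := hr.out.odd_of_ne_two hr2
        have hiso' : ∀ v, Q ((z • g) v) = Q v := by
          intro v
          rw [LinearMap.smul_apply, QuadraticMap.map_smul, hzz, hiso, one_smul]
        have gi_g' : ∀ v, (z • gi) ((z • g) v) = v := by
          intro v
          rw [LinearMap.smul_apply, LinearMap.smul_apply, map_smul, gi_g, smul_smul, hzz,
            one_smul]
        have g_gi' : ∀ v, (z • g) ((z • gi) v) = v := by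
          intro v
          rw [LinearMap.smul_apply, LinearMap.smul_apply, map_smul, g_gi, smul_smul, hzz,
            one_smul]
        have hgr' : (z • g) ^ r = 1 := by
          rw [smul_pow, hgr, smul_smul, ← pow_succ]
          obtain ⟨k, hk⟩ := rodd
          rw [show r + 1 = 2 * (k + 1) by omega, pow_mul, hz2, one_pow, one_smul]
        have hcond : finrank F W₀ % c < finrank F (ι → F) % c ∨
            (finrank F (ι → F) % c = 0 ∧ LinearMap.ker (z • g - 1) ≠ ⊥) := by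
          rw [hW₀.1, hn]
          rcases hcase with ⟨-, -, hlt⟩ | ⟨hk₀, hA⟩
          · exact Or.inl hlt
          · exact Or.inr ⟨hk₀, hfpfno hr2 hrp hk₀ hA (z • g) hiso' hgr'⟩
        obtain ⟨W, hWd, hWnd, hWiso, hWg⟩ := exists_iso_of_odd_order hqodd hqp Q hQ (z • g)
          (z • gi) hiso' gi_g' g_gi' r hr2 hrp hgr' i c hi hc W₀ hW₀nd (by rw [hW₀.1]; exact hm)
          (by rw [hW₀.1, hn]; omega) hcond
        refine ⟨W, hWd, hWnd, hWiso, ?_⟩
        intro w hw
        have h5 := W.smul_mem z (hWg w hw)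
        rwa [LinearMap.smul_apply, smul_smul, hzz, one_smul] at h5
    obtain ⟨W, hWd, hWnd, hWiso, hWg⟩ := key
    refine ⟨W, ⟨by rw [hWd, hW₀.1], (isNondegenerateOn_iff Q W).2 hWnd, hWiso⟩, ?_⟩
    rintro _ ⟨w, hw, rfl⟩
    exact hWg w hw

end main

end Cfsg.Agent.Lib.Helper5.OParab
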