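import Mathlib
import Cfsg.Agent.Lib.Helper5.OParab.NegOmega
import Cfsg.Agent.Lib.Helper5.OElus.Sign

set_option autoImplicit false

/-!
# Fixed-point-free isometries of odd prime order and the sign of the space
-/

namespace Cfsg.Agent.Lib.Helper5.OParab

open QuadraticMap Module Cfsg
open Cfsg.Agent.Lib.Helper5.QuadTwo Cfsg.Agent.Lib.Helper5.QuadSign
open Cfsg.Agent.Lib.Helper5.OrthPrime Cfsg.Agent.Lib.Helper5.OElus

universe u

section fpf
variable {F : Type u} [Field F] [Fintype F] {V : Type u} [AddCommGroup V] [Module F V]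
  [FiniteDimensional F V] (p : ℕ) [Fact p.Prime] [CharP F p]

include p in
/-- **the sign of a space with a fixed-point-free isometry of odd prime order `r ≠ p`** -/
theorem fpf_sign (Q : QuadraticForm F V) (hQ : Nd Q) (d : ℕ) (hk : finrank F V = 2 * d) (ε : ℤ)
    (hε : HasSign Q d ε) (g : V →ₗ[F] V) (hiso : ∀ x, Q (g x) = Q x) (r : ℕ)
    [hr : Fact r.Prime] (hr2 : r ≠ 2) (hrp : r ≠ p) (hgr : g ^ r = 1) (i : ℕ)
    (hi : i = orderOf ((Fintype.card F : ℕ) : ZMod r)) (hker : LinearMap.ker (g - 1) = ⊥) :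
    (Even i → ∃ s, 2 * d = i * s ∧ ε = (-1) ^ s) ∧ (¬ Even i → ε = 1) := by
  have hr0 : 0 < r := hr.out.pos
  have gi_g : ∀ x, (g ^ (r - 1)) (g x) = x := by
    intro x
    rw [← Module.End.mul_apply, ← pow_succ, Nat.sub_add_cancel hr0, hgr, Module.End.one_apply]
  have g_gi : ∀ x, g ((g ^ (r - 1)) x) = x := by
    intro x
    rw [← Module.End.mul_apply, ← pow_succ', Nat.sub_add_cancel hr0, hgr, Module.End.one_apply]
  have hfix : ∀ v ∈ (⊤ : Submodule F V), g v = v → v = 0 := by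
    intro v _ hv
    have h1 : v ∈ LinearMap.ker (g - 1) := by
      rw [LinearMap.mem_ker, LinearMap.sub_apply, Module.End.one_apply, hv, sub_self]
    rw [hker, Submodule.mem_bot] at h1
    exact h1
  obtain ⟨h1, h2⟩ := sign_sub_fpf p Q g (g ^ (r - 1)) hiso gi_g g_gi r hr2 hrp hgr i hi ⊤
    (fun _ _ => Submodule.mem_top) (fun _ _ => Submodule.mem_top) (ndOn_top Q hQ) hfix d
    (by rw [finrank_top, hk])
  constructor
  · intro hev
    obtain ⟨s, hs, hsign⟩ := h1 hev
    rw [hasSign_top_iff] at hsign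
    exact ⟨s, hs, hε.unique hsign⟩
  · intro hev
    have hsign := h2 hev
    rw [hasSign_top_iff] at hsign
    exact hε.unique hsign

end fpf

section arith

theorem dvd_pow_sub_one_of_dvd {q r i d : ℕ} (hi : i = orderOf (q : ZMod r)) (hid : i ∣ d) :
    (r : ℤ) ∣ (q : ℤ) ^ d - 1 := by
  have hpow : (q : ZMod r) ^ d = 1 := orderOf_dvd_iff_pow_eq_one.1 (hi ▸ hid)
  apply (ZMod.intCast_zmod_eq_zero_iff_dvd ((q : ℤ) ^ d - 1) r).1
  push_cast
  rw [hpow, sub_self]

theorem dvd_pow_add_one_of_odd {q r i d s : ℕ} [hr : Fact r.Prime] (hi : i = orderOf (q : ZMod r))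
    (hi0 : 0 < i) (hev : Even i) (hds : 2 * d = i * s) (hs : Odd s) :
    (r : ℤ) ∣ (q : ℤ) ^ d + 1 := by
  obtain ⟨i', hi'⟩ := hev
  have hd : d = i' * s := by
    have : 2 * d = 2 * (i' * s) := by rw [hds, hi']; ring
    omega
  have h1 : ((q : ZMod r) ^ i') ^ 2 = 1 := by
    rw [← pow_mul, show i' * 2 = i by omega, hi]
    exact pow_orderOf_eq_one _
  have h2 : (q : ZMod r) ^ i' ≠ 1 := by
    intro h
    have := orderOf_le_of_pow_eq_one (by omega : 0 < i') h
    omega
  have h3 : (q : ZMod r) ^ i' = -1 := by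
    have h4 : ((q : ZMod r) ^ i' - 1) * ((q : ZMod r) ^ i' + 1) = 0 := by linear_combination h1
    rcases mul_eq_zero.1 h4 with h | h
    · exact absurd (sub_eq_zero.1 h) h2
    · exact eq_neg_of_add_eq_zero_left h
  have hpow : (q : ZMod r) ^ d = -1 := by
    rw [hd, pow_mul, h3, hs.neg_one_pow]
  apply (ZMod.intCast_zmod_eq_zero_iff_dvd ((q : ℤ) ^ d + 1) r).1
  push_cast
  rw [hpow]
  ring

end arith

end Cfsg.Agent.Lib.Helper5.OParab
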