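import Mathlib
import Cfsg.Agent.Lib.Helper5.OUnip.MainPlus
import Cfsg.Agent.Lib.Helper5.OUnip.SubRk

set_option autoImplicit false

/-!
# A unipotent element of `Ω⁺_{2d}(q)` of order `p` fixing no nondegenerate subspace of a given
odd dimension
-/

namespace Cfsg.Agent.Lib.Helper5.OParab

open Module Matrix Cfsg
open Cfsg.Agent.Lib.Helper5.SpUnip Cfsg.Agent.Lib.Helper5.OUnip

universe u

section comb

/-- sub-multisets of odd size of `(e, e, 2^a)` with an even number of `2`s -/
theorem sum_mod_four (e a : ℕ) (he : e = 1 ∨ e = 3) (ν : Multiset ℕ)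
    (hν : ν ≤ e ::ₘ e ::ₘ Multiset.replicate a 2) (hev : Even (ν.count 2)) (hodd : Odd ν.sum) :
    ν.sum % 4 = e := by
  have he2 : e ≠ 2 := by omega
  have hsub : ν.toFinset ⊆ {e, 2} := by
    intro x hx
    rw [Multiset.mem_toFinset] at hx
    have hxμ := Multiset.mem_of_le hν hx
    rw [Multiset.mem_cons, Multiset.mem_cons] at hxμ
    rw [Finset.mem_insert, Finset.mem_singleton]
    rcases hxμ with h | h | h
    · exact Or.inl h
    · exact Or.inl h
    · exact Or.inr (Multiset.eq_of_mem_replicate h)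
  have hs := Finset.sum_multiset_count_of_subset ν {e, 2} hsub
  rw [Finset.sum_pair he2, smul_eq_mul, smul_eq_mul] at hs
  have hce : ν.count e ≤ 2 := by
    have := Multiset.count_le_of_le e hν
    rwa [Multiset.count_cons_self, Multiset.count_cons_self, Multiset.count_replicate,
      if_neg (Ne.symm he2)] at this
  obtain ⟨k, hk⟩ := hev
  rw [Nat.odd_iff] at hodd
  rcases he with rfl | rfl <;> omega

theorem even_sum_of_le_replicate (a : ℕ) (ν : Multiset ℕ) (hν : ν ≤ Multiset.replicate a 2) :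
    Even ν.sum := by
  obtain ⟨b, -, rfl⟩ := Multiset.le_replicate_iff.1 hν
  rw [Multiset.sum_replicate, smul_eq_mul]
  exact even_two.mul_left b

end comb

section unip
variable {F : Type u} [Field F]

/-- **a bad unipotent element of `Ω⁺_{2d}(q)`** -/
theorem exists_bad_unipotent_plus {p : ℕ} [Fact p.Prime] [CharP F p] (hp2 : p ≠ 2) (d m : ℕ)
    (hd : 4 ≤ d) (hm : Odd m) :
    ∃ x : GL (Fin d ⊕ Fin d) F, x ∈ Cfsg.Geo.omegaGL (Cfsg.quadFormPlus d F) ∧
      x ^ p = 1 ∧ x ≠ 1 ∧ ∀ W : Submodule F (Fin d ⊕ Fin d → F), finrank F W = m →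
        Cfsg.Geo.IsNondegenerateOn (QuadraticMap.polar (Cfsg.quadFormPlus d F)) W →
        ¬ W.map (Matrix.toLin' (x : Matrix (Fin d ⊕ Fin d) (Fin d ⊕ Fin d) F)) ≤ W := by
  have hp : p.Prime := Fact.out
  have hp3 : 3 ≤ p := by
    have := hp.two_le
    omega
  have hF : ringChar F ≠ 2 := by rw [ringChar.eq F p]; exact hp2
  have h2 : (2 : F) ≠ 0 := Ring.two_ne_zero hF
  -- the type of the element
  obtain ⟨μ, hμ, hev, hsum, h2μ, hbad⟩ : ∃ μ : Multiset ℕ, (∀ b ∈ μ, 0 < b ∧ b ≤ p) ∧
      (∀ k : ℕ, Even k → Even (μ.count k)) ∧ μ.sum = 2 * d ∧ 2 ∈ μ ∧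
      ∀ ν : Multiset ℕ, ν ≤ μ → (∀ k : ℕ, Even k → Even (ν.count k)) → ν.sum ≠ m := by
    rcases Nat.even_or_odd d with hde | hdo
    · refine ⟨Multiset.replicate d 2, ?_, ?_, ?_, ?_, ?_⟩
      · intro b hb
        rw [Multiset.eq_of_mem_replicate hb]
        omega
      · intro k _
        rw [Multiset.count_replicate]
        split_ifs
        · exact hde
        · exact Even.zero
      · rw [Multiset.sum_replicate, smul_eq_mul]
        ring
      · rw [Multiset.mem_replicate]
        exact ⟨by omega, rfl⟩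
      · intro ν hν _ hsum
        have := even_sum_of_le_replicate d ν hν
        rw [hsum] at this
        exact (Nat.not_even_iff_odd.2 hm) this
    · obtain ⟨e, a, he, hea, ha1, hae, hme⟩ : ∃ e a : ℕ, (e = 1 ∨ e = 3) ∧ 2 * e + 2 * a = 2 * d ∧
          1 ≤ a ∧ Even a ∧ m % 4 ≠ e := by
        obtain ⟨t, ht⟩ := hdo
        by_cases h4 : m % 4 = 1
        · exact ⟨3, d - 3, Or.inr rfl, by omega, by omega, ⟨t - 1, by omega⟩, by omega⟩
        · exact ⟨1, d - 1, Or.inl rfl, by omega, by omega, ⟨t, by omega⟩, h4⟩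
      have he2 : e ≠ 2 := by omega
      refine ⟨e ::ₘ e ::ₘ Multiset.replicate a 2, ?_, ?_, ?_, ?_, ?_⟩
      · intro b hb
        rw [Multiset.mem_cons, Multiset.mem_cons] at hb
        rcases hb with rfl | rfl | hb
        · omega
        · omega
        · rw [Multiset.eq_of_mem_replicate hb]
          omega
      · intro k hk
        have hke : k ≠ e := by
          rintro rfl
          rcases he with rfl | rfl
          · exact absurd hk (by decide)
          · exact absurd hk (by decide)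
        rw [Multiset.count_cons_of_ne hke, Multiset.count_cons_of_ne hke,
          Multiset.count_replicate]
        split_ifs
        · exact hae
        · exact Even.zero
      · rw [Multiset.sum_cons, Multiset.sum_cons, Multiset.sum_replicate, smul_eq_mul]
        omega
      · apply Multiset.mem_cons_of_mem
        apply Multiset.mem_cons_of_mem
        rw [Multiset.mem_replicate]
        exact ⟨by omega, rfl⟩
      · intro ν hν hνev hνsum
        have := sum_mod_four e a he ν hν (hνev 2 even_two) (by rw [hνsum]; exact hm)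
        rw [hνsum] at this
        exact hme this
  obtain ⟨g, hgΩ, hgp, hgQ, hgrk⟩ := exists_unipotent_plus (F := F) hp2 d μ hμ hev hsum
  have hpos : ∀ b ∈ μ, 0 < b := fun b hb => (hμ b hb).1
  have hr1 : rsum μ 1 ≠ 0 := by
    rw [Ne, rsum_eq_zero_iff]
    intro h
    have := h 2 h2μ
    omega
  have hg1 : g ≠ 1 := by
    rintro rfl
    apply hr1
    rw [← hgrk]
    have h0 : Matrix.toLin' ((1 : GL (Fin d ⊕ Fin d) F) :
        Matrix (Fin d ⊕ Fin d) (Fin d ⊕ Fin d) F) - 1 = 0 := by
      rw [Units.val_one, Matrix.toLin'_one]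
      exact sub_self _
    rw [h0, rk_eq_zero_iff, pow_one]
  refine ⟨g, by rw [← Cfsg.Agent.Lib.Helper5.coe_plusForm]; exact hgΩ, hgp, hg1, ?_⟩
  intro W hWd hWnd hWinv
  obtain ⟨ν, hle, hνsum, hνev⟩ := exists_sub_type_quad h2 (Cfsg.Agent.Lib.Helper5.plusForm d F)
    hgQ hpos hgrk hWinv (by rw [Cfsg.Agent.Lib.Helper5.coe_plusForm]; exact hWnd)
  exact hbad ν hle hνev (by rw [hνsum, hWd])

end unip

end Cfsg.Agent.Lib.Helper5.OParab
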