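import Mathlib
import Cfsg.Agent.Lib.Helper5.OParab.Main
import Cfsg.Agent.Lib.Helper5.OParab.MaxPM
import Cfsg.Agent.Lib.Helper5.OParab.TwoCrit
import Cfsg.Agent.Lib.Helper5.OParab.Fpf
import Cfsg.Agent.Lib.Helper5.OParab.UnipPlus

set_option autoImplicit false

/-!
# Elements of prime order of `Ω⁺_{2d}(q)`, `q` odd, fixing a nondegenerate subspace of odd
dimension in a given isometry class
-/

namespace Cfsg.Agent.Lib.Helper5.OParab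

open QuadraticMap Module Cfsg
open Cfsg.Agent.Lib.Helper5.QuadTwo Cfsg.Agent.Lib.Helper5.QuadSign
open Cfsg.Agent.Lib.Helper5.OrthPrime Cfsg.Agent.Lib.Helper5.OElus
open Cfsg.Agent.Lib.Helper5.NsPt

universe u

section plus
variable {F : Type u} [Field F] [Fintype F]

set_option maxHeartbeats 1600000 in
theorem plus_main {p : ℕ} [hp : Fact p.Prime] [CharP F p] {q : ℕ} (hq : Fintype.card F = q)
    (hodd : Odd q) (d m : ℕ) (hd : 4 ≤ d) (hm : Odd m) (hmd : m < d)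
    (W₀ : Submodule F (Fin d ⊕ Fin d → F))
    (hW₀ : finrank F W₀ = m ∧
      Cfsg.Geo.IsNondegenerateOn (polar (Cfsg.quadFormPlus d F)) W₀)
    (r : ℕ) [hr : Fact r.Prime]
    (hrΩ : r ∣ Nat.card {W : Submodule F (Fin d ⊕ Fin d → F) // finrank F W = m ∧
      Cfsg.Geo.IsNondegenerateOn (polar (Cfsg.quadFormPlus d F)) W ∧
      Cfsg.Geo.AreIsometricFor (Cfsg.quadFormPlus d F) W W₀})
    (i c : ℕ) (hi : i = orderOf (q : ZMod r)) (hc : c = if Even i then i else 2 * i) :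
    (∀ x : GL (Fin d ⊕ Fin d) F, x ∈ Cfsg.Geo.omegaGL (Cfsg.quadFormPlus d F) →
      (∃ z : F, ((x ^ r : GL (Fin d ⊕ Fin d) F) : Matrix (Fin d ⊕ Fin d) (Fin d ⊕ Fin d) F) =
        z • (1 : Matrix (Fin d ⊕ Fin d) (Fin d ⊕ Fin d) F)) →
      (∀ z : F, (x : Matrix (Fin d ⊕ Fin d) (Fin d ⊕ Fin d) F) ≠
        z • (1 : Matrix (Fin d ⊕ Fin d) (Fin d ⊕ Fin d) F)) →
      ∃ W : Submodule F (Fin d ⊕ Fin d → F), (finrank F W = m ∧
        Cfsg.Geo.IsNondegenerateOn (polar (Cfsg.quadFormPlus d F)) W ∧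
        Cfsg.Geo.AreIsometricFor (Cfsg.quadFormPlus d F) W W₀) ∧
        W.map (Matrix.toLin' (x : Matrix (Fin d ⊕ Fin d) (Fin d ⊕ Fin d) F)) ≤ W) ↔
    ((r = 2 ∧ Odd d ∧ q % 8 ≠ 1) ∨
     (r ≠ p ∧ 2 < r ∧ Odd i ∧ c ≤ m ∧ 0 < m % c ∧ m % c < (2 * d) % c) ∨
     (r ≠ p ∧ 2 < r ∧ Even i ∧ (((2 * d) % c = 0 ∧ Odd ((2 * d) / i)) ∨
       (i ≤ m ∧ 0 < m % c ∧ m % c < (2 * d) % c)))) := by
  subst hq
  have hp2 : p ≠ 2 := by
    rintro rfl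
    obtain ⟨n, -, hn⟩ := FiniteField.card F 2
    rw [hn] at hodd
    exact (Nat.not_even_iff_odd.2 hodd) (Nat.even_pow.2 ⟨even_two, n.ne_zero⟩)
  obtain ⟨f₀, hqp⟩ : ∃ f₀ : ℕ, Fintype.card F = p ^ f₀ := by
    obtain ⟨n, -, hn⟩ := FiniteField.card F p
    exact ⟨n, hn⟩
  have hcard : Fintype.card (Fin d ⊕ Fin d) = 2 * d := by
    rw [Fintype.card_sum, Fintype.card_fin]
    ring
  have hd1 : 1 ≤ d := by omega
  have hi0 : r ≠ p → 0 < i := by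
    intro hrp
    have hrq : ¬ r ∣ Fintype.card F := by
      rw [hqp]
      intro h
      exact hrp ((Nat.prime_dvd_prime_iff_eq hr.out hp.out).mp (hr.out.dvd_of_dvd_pow h))
    exact hi ▸ order_pos' r hrq
  have hcoe : ⇑(qPlus (F := F) d) = Cfsg.quadFormPlus d F := qPlus_coe d
  rw [← hcoe] at hW₀ hrΩ ⊢
  have h2ex : ¬ (Odd d ∧ Fintype.card F % 8 ≠ 1) →
      ∃ g : ↥(Cfsg.isometryGroup F ⇑(qPlus (F := F) d)), g ∈ Cfsg.Omega F ⇑(qPlus (F := F) d) ∧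
        ((g : GL (Fin d ⊕ Fin d) F) : Matrix (Fin d ⊕ Fin d) (Fin d ⊕ Fin d) F) *
          ((g : GL (Fin d ⊕ Fin d) F) : Matrix (Fin d ⊕ Fin d) (Fin d ⊕ Fin d) F) = -1 :=
    fun hA => (exists_neg_sq_iff hodd (qPlus (F := F) d) (nd_qPlus (F := F) d) d hd1 hcard 1 (hasSign_qPlus (F := F) d)).2
      ((plus_two_iff hodd d).2 hA)
  have h2no : (Odd d ∧ Fintype.card F % 8 ≠ 1) →
      ∀ g : ↥(Cfsg.isometryGroup F ⇑(qPlus (F := F) d)), g ∈ Cfsg.Omega F ⇑(qPlus (F := F) d) →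
        ((g : GL (Fin d ⊕ Fin d) F) : Matrix (Fin d ⊕ Fin d) (Fin d ⊕ Fin d) F) *
          ((g : GL (Fin d ⊕ Fin d) F) : Matrix (Fin d ⊕ Fin d) (Fin d ⊕ Fin d) F) ≠ -1 :=
    fun hA g hgΩ hgg => (plus_two_iff hodd d).1
      ((exists_neg_sq_iff hodd (qPlus (F := F) d) (nd_qPlus (F := F) d) d hd1 hcard 1 (hasSign_qPlus (F := F) d)).1
        ⟨g, hgΩ, hgg⟩) hA
  have hfpfex : r ≠ 2 → r ≠ p → (2 * d) % c = 0 → ¬ (Even i ∧ Odd (2 * d / i)) →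
      ∃ g : ↥(Cfsg.isometryGroup F ⇑(qPlus (F := F) d)), g ^ r = 1 ∧
        g ∈ Cfsg.Omega F ⇑(qPlus (F := F) d) ∧
        ∀ v, Matrix.toLin' ((g : GL (Fin d ⊕ Fin d) F) :
          Matrix (Fin d ⊕ Fin d) (Fin d ⊕ Fin d) F) v = v → v = 0 := by
    intro hr2 hrp hk₀ hA
    have hi0' := hi0 hrp
    have hid : i ∣ d := by
      by_cases hev : Even i
      · have hc' : c = i := by rw [hc, if_pos hev]
        obtain ⟨s, hs⟩ : i ∣ 2 * d := hc' ▸ Nat.dvd_of_mod_eq_zero hk₀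
        have hs' : 2 * d / i = s := by rw [hs, Nat.mul_div_cancel_left _ hi0']
        have hsev : Even s := by
          by_contra h
          exact hA ⟨hev, hs' ▸ Nat.not_even_iff_odd.1 h⟩
        obtain ⟨s', hs''⟩ := hsev
        refine ⟨s', ?_⟩
        have : 2 * d = 2 * (i * s') := by rw [hs, hs'']; ring
        omega
      · have hc' : c = 2 * i := by rw [hc, if_neg hev]
        have h1 : 2 * i ∣ 2 * d := hc' ▸ Nat.dvd_of_mod_eq_zero hk₀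
        exact (Nat.mul_dvd_mul_iff_left (by norm_num)).1 h1
    exact exists_fpf_plus p rfl d r hr.out hr2 hrp (dvd_pow_sub_one_of_dvd hi hid)
  have hfpfno : r ≠ 2 → r ≠ p → (2 * d) % c = 0 → (Even i ∧ Odd (2 * d / i)) →
      ∀ g : (Fin d ⊕ Fin d → F) →ₗ[F] (Fin d ⊕ Fin d → F),
        (∀ x, qPlus (F := F) d (g x) = qPlus (F := F) d x) → g ^ r = 1 →
        LinearMap.ker (g - 1) ≠ ⊥ := by
    rintro hr2 hrp hk₀ ⟨hev, hodd'⟩ g hiso hgr hker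
    have hi0' := hi0 hrp
    have hs1 : HasSign (⇑(qPlus (F := F) d)) d 1 := hasSign_qPlus d
    obtain ⟨h1, -⟩ := fpf_sign p (qPlus (F := F) d) (nd_qPlus (F := F) d) d
      (finrank_plus (F := F) d) 1 hs1 g hiso r hr2 hrp hgr i hi hker
    obtain ⟨s, hs, hsign⟩ := h1 hev
    have hs' : 2 * d / i = s := by rw [hs, Nat.mul_div_cancel_left _ hi0']
    rw [hs'] at hodd'
    rw [hodd'.neg_one_pow] at hsign
    norm_num at hsign
  have hmax : r ≠ 2 → r ≠ p → c ≤ 2 * d → 0 < (2 * d) % c →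
      ∃ g : ↥(Cfsg.isometryGroup F ⇑(qPlus (F := F) d)), g ^ r = 1 ∧ g ≠ 1 ∧
        g ∈ Cfsg.Omega F ⇑(qPlus (F := F) d) ∧
        finrank F (LinearMap.ker (Matrix.toLin' ((g : GL (Fin d ⊕ Fin d) F) :
          Matrix (Fin d ⊕ Fin d) (Fin d ⊕ Fin d) F) - 1)) = (2 * d) % c :=
    fun hr2 hrp hcn hk₀ => exists_max_plus p rfl (Nat.odd_iff.1 hodd) d r hr2 hrp i c hi hc hcn
      hk₀
  have hunip : r = p → ∃ x : GL (Fin d ⊕ Fin d) F, x ∈ Cfsg.Geo.omegaGL ⇑(qPlus (F := F) d) ∧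
      x ^ p = 1 ∧ x ≠ 1 ∧ ∀ W : Submodule F (Fin d ⊕ Fin d → F), (finrank F W = m ∧
        Cfsg.Geo.IsNondegenerateOn (polar ⇑(qPlus (F := F) d)) W ∧
        Cfsg.Geo.AreIsometricFor ⇑(qPlus (F := F) d) W W₀) →
        ¬ W.map (Matrix.toLin' (x : Matrix (Fin d ⊕ Fin d) (Fin d ⊕ Fin d) F)) ≤ W := by
    intro _
    obtain ⟨x, hxΩ, hxp, hx1, hbad⟩ := exists_bad_unipotent_plus (F := F) hp2 d m hd hm
    rw [← hcoe] at hxΩ hbad
    exact ⟨x, hxΩ, hxp, hx1, fun W hW => hbad W hW.1 hW.2.1⟩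
  have key := main_iff (p := p) rfl hodd (qPlus (F := F) d) (nd_qPlus (F := F) d) d m hcard hm hmd W₀ hW₀
    r hrΩ i c hi hc (Odd d ∧ Fintype.card F % 8 ≠ 1) (Even i ∧ Odd (2 * d / i))
    h2ex h2no hfpfex hfpfno hmax hunip
  rw [key]
  -- the arithmetic
  have hio : Odd i ↔ ¬ Even i := Nat.not_even_iff_odd.symm
  have h2c : 2 ∣ c := by
    rw [hc]
    split_ifs with h
    · exact h.two_dvd
    · exact dvd_mul_right 2 i
  have hmc : 0 < m % c := by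
    have h1 : m % c % 2 = 1 := by
      rw [Nat.mod_mod_of_dvd m h2c]
      exact Nat.odd_iff.1 hm
    omega
  by_cases hev : Even i
  · have hc' : c = i := by rw [hc, if_pos hev]
    rw [hc'] at hmc ⊢
    constructor
    · rintro (h | ⟨h1, h2, h3 | h3⟩)
      · exact Or.inl h
      · exact Or.inr (Or.inr ⟨h1, h2, hev, Or.inr ⟨h3.2.1, hmc, h3.2.2⟩⟩)
      · exact Or.inr (Or.inr ⟨h1, h2, hev, Or.inl ⟨h3.1, h3.2.2⟩⟩)
    · rintro (h | ⟨-, -, h3, -⟩ | ⟨h1, h2, -, h4 | h4⟩)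
      · exact Or.inl h
      · exact absurd hev (hio.1 h3)
      · exact Or.inr ⟨h1, h2, Or.inr ⟨h4.1, hev, h4.2⟩⟩
      · exact Or.inr ⟨h1, h2, Or.inl ⟨by omega, h4.1, h4.2.2⟩⟩
  · constructor
    · rintro (h | ⟨h1, h2, h3 | h3⟩)
      · exact Or.inl h
      · exact Or.inr (Or.inl ⟨h1, h2, hio.2 hev, h3.2.1, hmc, h3.2.2⟩)
      · exact absurd h3.2.1 hev
    · rintro (h | ⟨h1, h2, -, h4, h5, h6⟩ | ⟨-, -, h3, -⟩)
      · exact Or.inl h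
      · exact Or.inr ⟨h1, h2, Or.inl ⟨by omega, h4, h6⟩⟩
      · exact absurd h3 hev

end plus

end Cfsg.Agent.Lib.Helper5.OParab
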