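import Mathlib
import Cfsg.Agent.Lib.Helper5.OParab.UnipMinusEven
import Cfsg.Agent.Lib.Helper5.OElus.Bridge

set_option autoImplicit false

/-!
# A unipotent element of `Ω⁻_{2d}(q)`, `d` even, of order `p` fixing no nondegenerate subspace
isometric to a given one of odd dimension
-/

namespace Cfsg.Agent.Lib.Helper5.OParab

open QuadraticMap Module Cfsg
open Cfsg.Agent.Lib.Helper5.QuadTwo Cfsg.Agent.Lib.Helper5.QuadSign
open Cfsg.Agent.Lib.Helper5.OrthPrime Cfsg.Agent.Lib.Helper5.OElus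

universe u

section main
variable {F : Type u} [Field F] [Fintype F]

/-- **a bad unipotent element of `Ω⁻_{2(d'+1)}(q)`, `d'` odd** -/
theorem exists_bad_unipotent_minus_even {p : ℕ} [Fact p.Prime] [CharP F p] (hp2 : p ≠ 2)
    (hq : Odd (Fintype.card F)) (d' m : ℕ) (hdo : Odd d') (hm : Odd m) (a b : F)
    (hab : ∀ x y : F, x ^ 2 + a * x * y + b * y ^ 2 = 0 → x = 0 ∧ y = 0)
    (W₀ : Submodule F ((Fin d' ⊕ Fin d') ⊕ Fin 2 → F))
    (hW₀ : Cfsg.Geo.IsNondegenerateOn (QuadraticMap.polar (Cfsg.quadFormMinus d' F a b)) W₀) :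
    ∃ x : GL ((Fin d' ⊕ Fin d') ⊕ Fin 2) F,
      x ∈ Cfsg.Geo.omegaGL (Cfsg.quadFormMinus d' F a b) ∧
      x ^ p = 1 ∧ x ≠ 1 ∧ ∀ W : Submodule F ((Fin d' ⊕ Fin d') ⊕ Fin 2 → F),
        (finrank F W = m ∧
        Cfsg.Geo.IsNondegenerateOn (QuadraticMap.polar (Cfsg.quadFormMinus d' F a b)) W ∧
        Cfsg.Geo.AreIsometricFor (Cfsg.quadFormMinus d' F a b) W W₀) →
        ¬ W.map (Matrix.toLin' (x : Matrix ((Fin d' ⊕ Fin d') ⊕ Fin 2)
          ((Fin d' ⊕ Fin d') ⊕ Fin 2) F)) ≤ W := by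
  have hp : p.Prime := Fact.out
  have hp3 : 3 ≤ p := by
    have := hp.two_le
    omega
  have hF : ringChar F ≠ 2 := by rw [ringChar.eq F p]; exact hp2
  have h2 : (2 : F) ≠ 0 := Ring.two_ne_zero hF
  have hpodd : Odd p := hp.odd_of_ne_two hp2
  have hodd : Fintype.card F % 2 = 1 := Nat.odd_iff.1 hq
  obtain ⟨t, ht⟩ := hdo
  subst ht
  have hcoe : ⇑(qMinus (F := F) (2 * t + 1) a b) = quadFormMinus (2 * t + 1) F a b :=
    qMinus_coe (2 * t + 1) a b
  rw [← hcoe] at hW₀ ⊢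
  obtain ⟨Q, hQdef⟩ : ∃ Q : QuadraticForm F ((Fin (2 * t + 1) ⊕ Fin (2 * t + 1)) ⊕ Fin 2 → F),
    Q = qMinus (2 * t + 1) a b := ⟨_, rfl⟩
  rw [← hQdef] at hW₀ ⊢
  have hQ : Nd Q := by
    rw [hQdef]
    exact nd_qMinus (2 * t + 1) hab
  have hS : Symm (polarBilin Q) := symm_polarBilin Q
  have hBnd : Nondeg (polarBilin Q) := fun v hv => hQ v (fun w => by
    have := hv w
    rwa [polarBilin_apply_apply] at this)
  have hQ' : (polarBilin Q).Nondegenerate := by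
    constructor
    · intro y hy
      apply hQ y
      intro w
      have := hy w
      rwa [polarBilin_apply_apply, polar_comm] at this
    · intro y hy
      apply hQ y
      intro w
      have := hy w
      rwa [polarBilin_apply_apply] at this
  have hW₀' : NdOn Q W₀ := (isNondegenerateOn_iff Q W₀).1 hW₀
  obtain ⟨δ₀, hδ₀⟩ := exists_isDisc (resForm (polarBilin Q) W₀)
  obtain ⟨δV, hδV⟩ := exists_isDisc (polarBilin Q)
  have hδ₀0 : δ₀ ≠ 0 := hδ₀.ne_zero (symm_resForm hS W₀) ((nondeg_res_iff Q W₀).2 hW₀')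
  have hδV0 : δV ≠ 0 := hδV.ne_zero hS hBnd
  obtain ⟨γ, hγ⟩ : ∃ γ : F, γ = if m % 4 = 1 then δ₀ else δ₀ * δV := ⟨_, rfl⟩
  have hγ0 : γ ≠ 0 := by
    rw [hγ]
    split_ifs
    · exact hδ₀0
    · exact mul_ne_zero hδ₀0 hδV0
  obtain ⟨ν, hν⟩ := FiniteField.exists_nonsquare hF
  have hν0 : ν ≠ 0 := by
    rintro rfl
    exact hν ⟨0, by ring⟩
  obtain ⟨α, hαdef⟩ : ∃ α : F, α = ν * γ / 2 := ⟨_, rfl⟩
  have hα0 : α ≠ 0 := by
    rw [hαdef]
    exact div_ne_zero (mul_ne_zero hν0 hγ0) h2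
  have hbad : ¬ ∃ s : F, s ≠ 0 ∧ γ = 2 * α * s ^ 2 := by
    rintro ⟨s, hs, h⟩
    apply hν
    refine ⟨s⁻¹, ?_⟩
    have h' : 2 * (ν * γ / 2) = ν * γ := by field_simp
    have h1 : γ * 1 = γ * (ν * s ^ 2) := by
      rw [hαdef, h'] at h
      linear_combination h
    have h3 := mul_left_cancel₀ hγ0 h1
    field_simp
    linear_combination -h3
  obtain ⟨s, u, hsu⟩ := exists_qBin_eq hodd h2 hab α hα0
  obtain ⟨x, e₀, w₁, hiso, hN2, hP1, hcube, hx1⟩ :=
    exists_cube_minus h2 t hab s u (by rw [hsu]; exact hα0)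
  rw [hsu, ← hQdef] at hP1
  rw [← hQdef] at hiso
  have hxp : x ^ p = 1 := by
    have h1 := Cfsg.Agent.Lib.Helper5.SpUnip.sub_one_pow_char (F := F) (p := p) x
    have h0 : (x - 1) ^ p = 0 := by
      have : p = 3 + (p - 3) := by omega
      rw [this, pow_add, hcube, zero_mul]
    rw [h0] at h1
    exact (sub_eq_zero.1 h1.symm)
  obtain ⟨g, hgΩ, hgp, hgx⟩ := exists_gl_of_unipotent hpodd h2 Q hQ' x hiso hxp
  have hdim : finrank F ((Fin (2 * t + 1) ⊕ Fin (2 * t + 1)) ⊕ Fin 2 → F) % 4 = 0 := by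
    rw [finrank_minus]
    omega
  refine ⟨g, hgΩ, hgp, ?_, ?_⟩
  · rintro rfl
    apply hx1
    rw [← hgx]
    simp
    rfl
  · rintro W ⟨hWm, hWnd, e, he⟩ hWinv
    rw [hgx] at hWinv
    have hWnd' : NdOn Q W := (isNondegenerateOn_iff Q W).1 hWnd
    have key : ∀ w w' : W, polar Q ((e w : W₀) : (Fin (2 * t + 1) ⊕ Fin (2 * t + 1)) ⊕ Fin 2 → F)
        ((e w' : W₀) : (Fin (2 * t + 1) ⊕ Fin (2 * t + 1)) ⊕ Fin 2 → F) =
        polar Q (w : (Fin (2 * t + 1) ⊕ Fin (2 * t + 1)) ⊕ Fin 2 → F)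
          (w' : (Fin (2 * t + 1) ⊕ Fin (2 * t + 1)) ⊕ Fin 2 → F) := by
      intro w w'
      unfold polar
      rw [← Submodule.coe_add, ← map_add, he, he, he, Submodule.coe_add]
    have hδW : IsDisc (resForm (polarBilin Q) W) δ₀ := by
      apply hδ₀.map e.symm
      intro y z
      rw [resForm_apply, resForm_apply, polarBilin_apply_apply, polarBilin_apply_apply]
      have := key (e.symm y) (e.symm z)
      rw [e.apply_symm_apply, e.apply_symm_apply] at this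
      exact this.symm
    have hWodd : Odd (finrank F W) := by rw [hWm]; exact hm
    apply no_inv_sub hq Q hQ x hiso e₀ hN2 w₁ α hα0 hP1 hdim δV hδV W hWodd hWnd'
      (fun v hv => hWinv ⟨v, hv, rfl⟩) δ₀ hδW
    · rintro h4 ⟨s', hs', h⟩
      apply hbad
      refine ⟨s', hs', ?_⟩
      rw [hWm] at h4
      rw [hγ, if_pos h4]
      exact h
    · rintro h4 ⟨s', hs', h⟩
      apply hbad
      refine ⟨s', hs', ?_⟩
      rw [hWm] at h4
      rw [hγ, if_neg (by omega)]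
      exact h

end main

end Cfsg.Agent.Lib.Helper5.OParab
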