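import Mathlib
import Cfsg.Agent.Lib.Helper5.OParab.UnipPlus
import Cfsg.Agent.Lib.Helper5.OUnip.Minus

set_option autoImplicit false

/-!
# A unipotent element of `Ω⁻_{2d}(q)`, `d` odd, of order `p` fixing no nondegenerate subspace of a
given odd dimension
-/

namespace Cfsg.Agent.Lib.Helper5.OParab

open Module Matrix Cfsg
open Cfsg.Agent.Lib.Helper5.SpUnip Cfsg.Agent.Lib.Helper5.OUnip

universe u

section unip
variable {F : Type u} [Field F]

/-- **a bad unipotent element of `Ω⁻_{2(d'+1)}(q)`, `d'` even** -/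
theorem exists_bad_unipotent_minus_odd {p : ℕ} [Fact p.Prime] [CharP F p] (hp2 : p ≠ 2)
    (d' m : ℕ) (hd : 3 ≤ d') (hde : Even d') (hm : Odd m) (a b : F)
    (hab : ∀ x y : F, x ^ 2 + a * x * y + b * y ^ 2 = 0 → x = 0 ∧ y = 0) :
    ∃ x : GL ((Fin d' ⊕ Fin d') ⊕ Fin 2) F,
      x ∈ Cfsg.Geo.omegaGL (Cfsg.quadFormMinus d' F a b) ∧
      x ^ p = 1 ∧ x ≠ 1 ∧ ∀ W : Submodule F ((Fin d' ⊕ Fin d') ⊕ Fin 2 → F), finrank F W = m →
        Cfsg.Geo.IsNondegenerateOn (QuadraticMap.polar (Cfsg.quadFormMinus d' F a b)) W →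
        ¬ W.map (Matrix.toLin' (x : Matrix ((Fin d' ⊕ Fin d') ⊕ Fin 2)
          ((Fin d' ⊕ Fin d') ⊕ Fin 2) F)) ≤ W := by
  have hp : p.Prime := Fact.out
  have hp3 : 3 ≤ p := by
    have := hp.two_le
    omega
  have hF : ringChar F ≠ 2 := by rw [ringChar.eq F p]; exact hp2
  have h2 : (2 : F) ≠ 0 := Ring.two_ne_zero hF
  obtain ⟨t, ht⟩ := hde
  obtain ⟨e, k, he, hek, hk1, hke, hme⟩ : ∃ e k : ℕ, (e = 1 ∨ e = 3) ∧
      2 * e + 2 * k = 2 * d' + 2 ∧ 1 ≤ k ∧ Even k ∧ m % 4 ≠ e := by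
    by_cases h4 : m % 4 = 1
    · exact ⟨3, d' - 2, Or.inr rfl, by omega, by omega, ⟨t - 1, by omega⟩, by omega⟩
    · exact ⟨1, d', Or.inl rfl, by omega, by omega, ⟨t, ht⟩, h4⟩
  have he2 : e ≠ 2 := by omega
  obtain ⟨μ, hμdef⟩ : ∃ μ : Multiset ℕ, μ = e ::ₘ e ::ₘ Multiset.replicate k 2 := ⟨_, rfl⟩
  have hμ : ∀ c ∈ μ, 0 < c ∧ c ≤ p := by
    intro c hc
    rw [hμdef, Multiset.mem_cons, Multiset.mem_cons] at hc
    rcases hc with rfl | rfl | hc
    · omega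
    · omega
    · rw [Multiset.eq_of_mem_replicate hc]
      omega
  have hev : ∀ j : ℕ, Even j → Even (μ.count j) := by
    intro j hj
    have hje : j ≠ e := by
      rintro rfl
      rcases he with rfl | rfl
      · exact absurd hj (by decide)
      · exact absurd hj (by decide)
    rw [hμdef, Multiset.count_cons_of_ne hje, Multiset.count_cons_of_ne hje,
      Multiset.count_replicate]
    split_ifs
    · exact hke
    · exact Even.zero
  have hsum : μ.sum = 2 * d' + 2 := by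
    rw [hμdef, Multiset.sum_cons, Multiset.sum_cons, Multiset.sum_replicate, smul_eq_mul]
    omega
  have h2μ : 2 ∈ μ := by
    rw [hμdef]
    apply Multiset.mem_cons_of_mem
    apply Multiset.mem_cons_of_mem
    rw [Multiset.mem_replicate]
    exact ⟨by omega, rfl⟩
  have heμ : ∃ c ∈ μ, Odd c := by
    refine ⟨e, by rw [hμdef]; exact Multiset.mem_cons_self e _, ?_⟩
    rcases he with rfl | rfl
    · exact odd_one
    · exact ⟨1, rfl⟩
  obtain ⟨g, hgΩ, hgp, hgQ, hgrk⟩ :=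
    exists_unipotent_minus (F := F) hp2 d' a b hab μ hμ hev hsum heμ
  have hpos : ∀ c ∈ μ, 0 < c := fun c hc => (hμ c hc).1
  have hr1 : rsum μ 1 ≠ 0 := by
    rw [Ne, rsum_eq_zero_iff]
    intro h
    have := h 2 h2μ
    omega
  have hg1 : g ≠ 1 := by
    rintro rfl
    apply hr1
    rw [← hgrk]
    have h0 : Matrix.toLin' ((1 : GL ((Fin d' ⊕ Fin d') ⊕ Fin 2) F) :
        Matrix ((Fin d' ⊕ Fin d') ⊕ Fin 2) ((Fin d' ⊕ Fin d') ⊕ Fin 2) F) - 1 = 0 := by
      rw [Units.val_one, Matrix.toLin'_one]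
      exact sub_self _
    rw [h0, rk_eq_zero_iff, pow_one]
  refine ⟨g, by rw [← Cfsg.Agent.Lib.Helper5.coe_minusForm]; exact hgΩ, hgp, hg1, ?_⟩
  intro W hWd hWnd hWinv
  obtain ⟨ν, hle, hνsum, hνev⟩ := exists_sub_type_quad h2
    (Cfsg.Agent.Lib.Helper5.minusForm d' F a b) hgQ hpos hgrk hWinv
    (by rw [Cfsg.Agent.Lib.Helper5.coe_minusForm]; exact hWnd)
  rw [hμdef] at hle
  have := sum_mod_four e k he ν hle (hνev 2 even_two) (by rw [hνsum, hWd]; exact hm)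
  rw [hνsum, hWd] at this
  exact hme this

end unip

end Cfsg.Agent.Lib.Helper5.OParab
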