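import Mathlib
import Cfsg.Agent.Lib.Helper5.OParab.Main
import Cfsg.Agent.Lib.Helper5.OParab.MaxPM
import Cfsg.Agent.Lib.Helper5.OParab.TwoCrit
import Cfsg.Agent.Lib.Helper5.OParab.Fpf
import Cfsg.Agent.Lib.Helper5.OParab.UnipMinusOdd
import Cfsg.Agent.Lib.Helper5.OParab.UnipMinusEvenMain

set_option autoImplicit false

/-!
# Elements of prime order of `Ω⁻_{2d}(q)`, `q` odd, fixing a nondegenerate subspace of odd
dimension in a given isometry class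
-/

namespace Cfsg.Agent.Lib.Helper5.OParab

open QuadraticMap Module Cfsg
open Cfsg.Agent.Lib.Helper5.QuadTwo Cfsg.Agent.Lib.Helper5.QuadSign
open Cfsg.Agent.Lib.Helper5.OrthPrime Cfsg.Agent.Lib.Helper5.OElus
open Cfsg.Agent.Lib.Helper5.NsPt

universe u

section minus
variable {F : Type u} [Field F] [Fintype F]

set_option maxHeartbeats 1600000 in
theorem minus_main' {p : ℕ} [hp : Fact p.Prime] [CharP F p] {q : ℕ} (hq : Fintype.card F = q)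
    (hodd : Odd q) (d' m : ℕ) (hd : 3 ≤ d') (hm : Odd m) (hmd : m < d' + 1) (a b : F)
    (hab : ∀ x y : F, x ^ 2 + a * x * y + b * y ^ 2 = 0 → x = 0 ∧ y = 0)
    (W₀ : Submodule F ((Fin d' ⊕ Fin d') ⊕ Fin 2 → F))
    (hW₀ : finrank F W₀ = m ∧
      Cfsg.Geo.IsNondegenerateOn (polar (Cfsg.quadFormMinus d' F a b)) W₀)
    (r : ℕ) [hr : Fact r.Prime]
    (hrΩ : r ∣ Nat.card {W : Submodule F ((Fin d' ⊕ Fin d') ⊕ Fin 2 → F) // finrank F W = m ∧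
      Cfsg.Geo.IsNondegenerateOn (polar (Cfsg.quadFormMinus d' F a b)) W ∧
      Cfsg.Geo.AreIsometricFor (Cfsg.quadFormMinus d' F a b) W W₀})
    (i c : ℕ) (hi : i = orderOf (q : ZMod r)) (hc : c = if Even i then i else 2 * i) :
    (∀ x : GL ((Fin d' ⊕ Fin d') ⊕ Fin 2) F,
      x ∈ Cfsg.Geo.omegaGL (Cfsg.quadFormMinus d' F a b) →
      (∃ z : F, ((x ^ r : GL ((Fin d' ⊕ Fin d') ⊕ Fin 2) F) :
        Matrix ((Fin d' ⊕ Fin d') ⊕ Fin 2) ((Fin d' ⊕ Fin d') ⊕ Fin 2) F) =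
        z • (1 : Matrix ((Fin d' ⊕ Fin d') ⊕ Fin 2) ((Fin d' ⊕ Fin d') ⊕ Fin 2) F)) →
      (∀ z : F, (x : Matrix ((Fin d' ⊕ Fin d') ⊕ Fin 2) ((Fin d' ⊕ Fin d') ⊕ Fin 2) F) ≠
        z • (1 : Matrix ((Fin d' ⊕ Fin d') ⊕ Fin 2) ((Fin d' ⊕ Fin d') ⊕ Fin 2) F)) →
      ∃ W : Submodule F ((Fin d' ⊕ Fin d') ⊕ Fin 2 → F), (finrank F W = m ∧
        Cfsg.Geo.IsNondegenerateOn (polar (Cfsg.quadFormMinus d' F a b)) W ∧
        Cfsg.Geo.AreIsometricFor (Cfsg.quadFormMinus d' F a b) W W₀) ∧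
        W.map (Matrix.toLin' (x : Matrix ((Fin d' ⊕ Fin d') ⊕ Fin 2)
          ((Fin d' ⊕ Fin d') ⊕ Fin 2) F)) ≤ W) ↔
    ((r = 2 ∧ (Even (d' + 1) ∨ q % 8 ≠ 7)) ∨
     (r ≠ p ∧ 2 < r ∧ Odd i ∧ ((2 * (d' + 1)) % c = 0 ∨
       (c ≤ m ∧ 0 < m % c ∧ m % c < (2 * (d' + 1)) % c))) ∨
     (r ≠ p ∧ 2 < r ∧ Even i ∧ (((2 * (d' + 1)) % c = 0 ∧ Even ((2 * (d' + 1)) / i)) ∨
       (0 < (2 * (d' + 1)) % c ∧ i ≤ m ∧ 0 < m % c ∧ m % c < (2 * (d' + 1)) % c)))) := by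
  subst hq
  have hp2 : p ≠ 2 := by
    rintro rfl
    obtain ⟨n, -, hn⟩ := FiniteField.card F 2
    rw [hn] at hodd
    exact (Nat.not_even_iff_odd.2 hodd) (Nat.even_pow.2 ⟨even_two, n.ne_zero⟩)
  obtain ⟨f₀, hqp⟩ : ∃ f₀ : ℕ, Fintype.card F = p ^ f₀ := by
    obtain ⟨n, -, hn⟩ := FiniteField.card F p
    exact ⟨n, hn⟩
  have hcard : Fintype.card ((Fin d' ⊕ Fin d') ⊕ Fin 2) = 2 * (d' + 1) := by
    rw [Fintype.card_sum, Fintype.card_sum, Fintype.card_fin, Fintype.card_fin]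
    ring
  have hd1 : 1 ≤ d' + 1 := by omega
  have hi0 : r ≠ p → 0 < i := by
    intro hrp
    have hrq : ¬ r ∣ Fintype.card F := by
      rw [hqp]
      intro h
      exact hrp ((Nat.prime_dvd_prime_iff_eq hr.out hp.out).mp (hr.out.dvd_of_dvd_pow h))
    exact hi ▸ order_pos' r hrq
  have hcoe : ⇑(qMinus (F := F) d' a b) = Cfsg.quadFormMinus d' F a b := qMinus_coe d' a b
  have hW₀nd := hW₀.2
  rw [← hcoe] at hW₀ hrΩ ⊢
  have hnd : Nd (qMinus (F := F) d' a b) := nd_qMinus (F := F) d' hab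
  have hs1 : HasSign (⇑(qMinus (F := F) d' a b)) (d' + 1) (-1) := hasSign_qMinus (F := F) d' hab
  have h2ex : ¬ (Even (d' + 1) ∨ Fintype.card F % 8 ≠ 7) →
      ∃ g : ↥(Cfsg.isometryGroup F ⇑(qMinus (F := F) d' a b)),
        g ∈ Cfsg.Omega F ⇑(qMinus (F := F) d' a b) ∧
        ((g : GL ((Fin d' ⊕ Fin d') ⊕ Fin 2) F) :
          Matrix ((Fin d' ⊕ Fin d') ⊕ Fin 2) ((Fin d' ⊕ Fin d') ⊕ Fin 2) F) *
          ((g : GL ((Fin d' ⊕ Fin d') ⊕ Fin 2) F) :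
            Matrix ((Fin d' ⊕ Fin d') ⊕ Fin 2) ((Fin d' ⊕ Fin d') ⊕ Fin 2) F) = -1 :=
    fun hA => (exists_neg_sq_iff hodd (qMinus (F := F) d' a b) hnd (d' + 1) hd1 hcard (-1) hs1).2
      ((minus_two_iff hodd (d' + 1)).2 hA)
  have h2no : (Even (d' + 1) ∨ Fintype.card F % 8 ≠ 7) →
      ∀ g : ↥(Cfsg.isometryGroup F ⇑(qMinus (F := F) d' a b)),
        g ∈ Cfsg.Omega F ⇑(qMinus (F := F) d' a b) →
        ((g : GL ((Fin d' ⊕ Fin d') ⊕ Fin 2) F) :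
          Matrix ((Fin d' ⊕ Fin d') ⊕ Fin 2) ((Fin d' ⊕ Fin d') ⊕ Fin 2) F) *
          ((g : GL ((Fin d' ⊕ Fin d') ⊕ Fin 2) F) :
            Matrix ((Fin d' ⊕ Fin d') ⊕ Fin 2) ((Fin d' ⊕ Fin d') ⊕ Fin 2) F) ≠ -1 :=
    fun hA g hgΩ hgg => (minus_two_iff hodd (d' + 1)).1
      ((exists_neg_sq_iff hodd (qMinus (F := F) d' a b) hnd (d' + 1) hd1 hcard (-1) hs1).1
        ⟨g, hgΩ, hgg⟩) hA
  have hfpfex : r ≠ 2 → r ≠ p → (2 * (d' + 1)) % c = 0 →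
      ¬ (Odd i ∨ (Even i ∧ Even (2 * (d' + 1) / i))) →
      ∃ g : ↥(Cfsg.isometryGroup F ⇑(qMinus (F := F) d' a b)), g ^ r = 1 ∧
        g ∈ Cfsg.Omega F ⇑(qMinus (F := F) d' a b) ∧
        ∀ v, Matrix.toLin' ((g : GL ((Fin d' ⊕ Fin d') ⊕ Fin 2) F) :
          Matrix ((Fin d' ⊕ Fin d') ⊕ Fin 2) ((Fin d' ⊕ Fin d') ⊕ Fin 2) F) v = v → v = 0 := by
    intro hr2 hrp hk₀ hA
    have hi0' := hi0 hrp
    have hev : Even i := by
      by_contra h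
      exact hA (Or.inl (Nat.not_even_iff_odd.1 h))
    have hc' : c = i := by rw [hc, if_pos hev]
    obtain ⟨s, hs⟩ : i ∣ 2 * (d' + 1) := hc' ▸ Nat.dvd_of_mod_eq_zero hk₀
    have hs' : 2 * (d' + 1) / i = s := by rw [hs, Nat.mul_div_cancel_left _ hi0']
    have hsodd : Odd s := by
      rw [← Nat.not_even_iff_odd]
      intro h
      exact hA (Or.inr ⟨hev, hs' ▸ h⟩)
    exact exists_fpf_minus p rfl (qMinus (F := F) d' a b) hnd (d' + 1) hcard hs1 r hr.out hr2 hrp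
      (dvd_pow_add_one_of_odd hi hi0' hev hs hsodd)
  have hfpfno : r ≠ 2 → r ≠ p → (2 * (d' + 1)) % c = 0 →
      (Odd i ∨ (Even i ∧ Even (2 * (d' + 1) / i))) →
      ∀ g : ((Fin d' ⊕ Fin d') ⊕ Fin 2 → F) →ₗ[F] ((Fin d' ⊕ Fin d') ⊕ Fin 2 → F),
        (∀ x, qMinus (F := F) d' a b (g x) = qMinus (F := F) d' a b x) → g ^ r = 1 →
        LinearMap.ker (g - 1) ≠ ⊥ := by
    rintro hr2 hrp hk₀ hA g hiso hgr hker
    have hi0' := hi0 hrp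
    obtain ⟨h1, h1'⟩ := fpf_sign p (qMinus (F := F) d' a b) hnd (d' + 1)
      (finrank_minus (F := F) d') (-1) hs1 g hiso r hr2 hrp hgr i hi hker
    rcases hA with hio | ⟨hev, hev'⟩
    · have := h1' (Nat.not_even_iff_odd.2 hio)
      norm_num at this
    · obtain ⟨s, hs, hsign⟩ := h1 hev
      have hs' : 2 * (d' + 1) / i = s := by rw [hs, Nat.mul_div_cancel_left _ hi0']
      rw [hs'] at hev'
      rw [hev'.neg_one_pow] at hsign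
      norm_num at hsign
  have hmax : r ≠ 2 → r ≠ p → c ≤ 2 * (d' + 1) → 0 < (2 * (d' + 1)) % c →
      ∃ g : ↥(Cfsg.isometryGroup F ⇑(qMinus (F := F) d' a b)), g ^ r = 1 ∧ g ≠ 1 ∧
        g ∈ Cfsg.Omega F ⇑(qMinus (F := F) d' a b) ∧
        finrank F (LinearMap.ker (Matrix.toLin' ((g : GL ((Fin d' ⊕ Fin d') ⊕ Fin 2) F) :
          Matrix ((Fin d' ⊕ Fin d') ⊕ Fin 2) ((Fin d' ⊕ Fin d') ⊕ Fin 2) F) - 1)) =
          (2 * (d' + 1)) % c :=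
    fun hr2 hrp hcn hk₀ => exists_max_minus p rfl (Nat.odd_iff.1 hodd) d' a b hab r hr2 hrp i c
      hi hc hcn hk₀
  have hunip : r = p → ∃ x : GL ((Fin d' ⊕ Fin d') ⊕ Fin 2) F,
      x ∈ Cfsg.Geo.omegaGL ⇑(qMinus (F := F) d' a b) ∧
      x ^ p = 1 ∧ x ≠ 1 ∧ ∀ W : Submodule F ((Fin d' ⊕ Fin d') ⊕ Fin 2 → F), (finrank F W = m ∧
        Cfsg.Geo.IsNondegenerateOn (polar ⇑(qMinus (F := F) d' a b)) W ∧
        Cfsg.Geo.AreIsometricFor ⇑(qMinus (F := F) d' a b) W W₀) →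
        ¬ W.map (Matrix.toLin' (x : Matrix ((Fin d' ⊕ Fin d') ⊕ Fin 2)
          ((Fin d' ⊕ Fin d') ⊕ Fin 2) F)) ≤ W := by
    intro _
    by_cases hde : Even d'
    · obtain ⟨x, hxΩ, hxp, hx1, hbad⟩ :=
        exists_bad_unipotent_minus_odd (F := F) hp2 d' m hd hde hm a b hab
      rw [← hcoe] at hxΩ hbad
      exact ⟨x, hxΩ, hxp, hx1, fun W hW => hbad W hW.1 hW.2.1⟩
    · obtain ⟨x, hxΩ, hxp, hx1, hbad⟩ :=
        exists_bad_unipotent_minus_even (F := F) hp2 hodd d' m (Nat.not_even_iff_odd.1 hde) hm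
          a b hab W₀ hW₀nd
      rw [← hcoe] at hxΩ hbad
      exact ⟨x, hxΩ, hxp, hx1, hbad⟩
  have key := main_iff (p := p) rfl hodd (qMinus (F := F) d' a b) hnd (d' + 1) m hcard hm hmd
    W₀ hW₀ r hrΩ i c hi hc (Even (d' + 1) ∨ Fintype.card F % 8 ≠ 7)
    (Odd i ∨ (Even i ∧ Even (2 * (d' + 1) / i)))
    h2ex h2no hfpfex hfpfno hmax hunip
  rw [key]
  -- the arithmetic
  have hio : Odd i ↔ ¬ Even i := Nat.not_even_iff_odd.symm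
  have h2c : 2 ∣ c := by
    rw [hc]
    split_ifs with h
    · exact h.two_dvd
    · exact dvd_mul_right 2 i
  have hmc : 0 < m % c := by
    have h1 : m % c % 2 = 1 := by
      rw [Nat.mod_mod_of_dvd m h2c]
      exact Nat.odd_iff.1 hm
    omega
  by_cases hev : Even i
  · have hc' : c = i := by rw [hc, if_pos hev]
    rw [hc'] at hmc ⊢
    constructor
    · rintro (h | ⟨h1, h2, h3 | h3⟩)
      · exact Or.inl h
      · exact Or.inr (Or.inr ⟨h1, h2, hev, Or.inr ⟨h3.1, h3.2.1, hmc, h3.2.2⟩⟩)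
      · rcases h3.2 with h4 | h4
        · exact absurd hev (hio.1 h4)
        · exact Or.inr (Or.inr ⟨h1, h2, hev, Or.inl ⟨h3.1, h4.2⟩⟩)
    · rintro (h | ⟨-, -, h3, -⟩ | ⟨h1, h2, -, h4 | h4⟩)
      · exact Or.inl h
      · exact absurd hev (hio.1 h3)
      · exact Or.inr ⟨h1, h2, Or.inr ⟨h4.1, Or.inr ⟨hev, h4.2⟩⟩⟩
      · exact Or.inr ⟨h1, h2, Or.inl ⟨h4.1, h4.2.1, h4.2.2.2⟩⟩
  · constructor
    · rintro (h | ⟨h1, h2, h3 | h3⟩)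
      · exact Or.inl h
      · exact Or.inr (Or.inl ⟨h1, h2, hio.2 hev, Or.inr ⟨h3.2.1, hmc, h3.2.2⟩⟩)
      · exact Or.inr (Or.inl ⟨h1, h2, hio.2 hev, Or.inl h3.1⟩)
    · rintro (h | ⟨h1, h2, h3, h4 | h4⟩ | ⟨-, -, h3, -⟩)
      · exact Or.inl h
      · exact Or.inr ⟨h1, h2, Or.inr ⟨h4, Or.inl h3⟩⟩
      · exact Or.inr ⟨h1, h2, Or.inl ⟨by omega, h4.1, h4.2.2⟩⟩
      · exact absurd h3 hev

end minus

end Cfsg.Agent.Lib.Helper5.OParab
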